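import Cfsg.Agent.Lib.ConjRankTwo.FlatBasic
import Cfsg.Agent.Lib.Invol.Quaternion
import Cfsg.Agent.S0205
import Cfsg.Agent.S2202

/-!
Conjugate rank two, flat case: the Sylow `2`-subgroups do not lie in the centralisers of their
involutions modulo the centre.
-/

set_option autoImplicit false
set_option linter.unusedSectionVars false
set_option linter.style.haveILetI false

namespace Cfsg.Agent.ConjRankTwo

open Subgroup CfsgLib.FGS.TwoLargest
open scoped commutatorElement

variable {G : Type*} [Group G] [Finite G] {n₁ n₂ : ℕ}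

theorem pEl_of_mem_sylow {p : ℕ} [Fact p.Prime] (S : Sylow p G) {x : G} (hx : x ∈ (S : Subgroup G)) :
    PEl p x := by
  obtain ⟨k, hk⟩ := IsPGroup.iff_orderOf.1 S.2 ⟨x, hx⟩
  exact ⟨k, by rwa [Subgroup.orderOf_mk] at hk⟩

theorem Hyp.sylow_two_not_le (D : Hyp G n₁ n₂) (S : Sylow 2 G) : ¬ (S : Subgroup G) ≤ center G := fun h =>
  D.ns (Cfsg.Agent.S4167.result fun x h4 =>
    S.not_dvd_index ((dvd_trans (by norm_num) h4).trans (index_dvd_of_le (h.trans (center_le_Cn x)))))

variable (F : Flat G n₁ n₂)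
include F

/-- The centre of the central quotient is trivial. -/
theorem Flat.quotient_center_eq_bot : center (G ⧸ center G) = ⊥ := by
  rw [eq_bot_iff_forall]
  intro y hy
  obtain ⟨x, rfl⟩ := QuotientGroup.mk_surjective y
  by_contra hne
  have hxZ : x ∉ center G := fun h => hne ((QuotientGroup.eq_one_iff x).2 h)
  have hc : ∀ g : G, ∃ z ∈ center G, g * x * g⁻¹ = z * x := fun g => by
    refine ⟨g * x * g⁻¹ * x⁻¹, mem_nbhd.1 ?_, by group⟩
    rw [nbhd, mem_comap, mem_centralizer_singleton_iff]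
    exact mem_center_iff.1 hy _
  haveI hn : (Cn x).Normal := by
    refine ⟨fun a ha g => ?_⟩
    obtain ⟨z, hz, e⟩ := hc g
    rw [← Cn_mul_center (t := x) hz, ← e]
    exact mem_Cn.2 ((mem_Cn.1 ha).map (MulAut.conj g).toMonoidHom)
  refine F.hyp.ns (isSolvable_of_quotient (Cn x)
    (Group.isSolvable_of_comm fun a b => Subtype.ext (F.commute hxZ a.2 b.2).eq)
    (Group.isSolvable_of_comm fun a b => ?_))
  obtain ⟨g, rfl⟩ := QuotientGroup.mk_surjective a
  obtain ⟨h, rfl⟩ := QuotientGroup.mk_surjective b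
  rw [← QuotientGroup.mk_mul, ← QuotientGroup.mk_mul, QuotientGroup.eq]
  obtain ⟨z, hz, ez⟩ := hc g
  obtain ⟨t, ht, et⟩ := hc h
  have e1 : ∀ p q c d : G, c ∈ center G → d ∈ center G → p * x * p⁻¹ = c * x → q * x * q⁻¹ = d * x →
      p * q * x * (p * q)⁻¹ = d * c * x := by
    intro p q c d hcc hd ep eq
    calc _ = p * (q * x * q⁻¹) * p⁻¹ := by group
      _ = p * d * x * p⁻¹ := by rw [eq]; group
      _ = d * (p * x * p⁻¹) := by rw [mem_center_iff.1 hd p]; group
      _ = d * c * x := by rw [ep, mul_assoc]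
  have hgh := e1 g h z t hz ht ez et
  have hhg := e1 h g t z ht hz et ez
  rw [mem_center_iff.1 hz t] at hgh
  refine mem_Cn.2 (mul_inv_eq_iff_eq_mul.1 ?_)
  calc _ = (g * h)⁻¹ * (h * g * x * (h * g)⁻¹) * (g * h) := by group
    _ = (g * h)⁻¹ * (g * h * x * (g * h)⁻¹) * (g * h) := by rw [hhg, hgh]
    _ = x := by group

/-- A Sylow `2`-subgroup contains an element `w`, central in it modulo the centre, with a proper
neighbourhood. -/
theorem Flat.exists_proper : ∃ (S : Sylow 2 G) (w g : G), w ∈ (S : Subgroup G) ∧ w ∉ center G ∧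
    w ^ 2 ∈ center G ∧ (S : Subgroup G) ≤ nbhd w ∧ g ∈ (S : Subgroup G) ∧ g ∉ Cn w := by
  haveI : Fact (Nat.Prime 2) := ⟨Nat.prime_two⟩
  obtain ⟨S⟩ : Nonempty (Sylow 2 G) := inferInstance
  obtain ⟨w, hw, -, hwZ, hw2, hconj, -⟩ := exists_near_central S (F.hyp.sylow_two_not_le S)
  have hSn : (S : Subgroup G) ≤ nbhd w := fun g hg => by
    obtain ⟨z, hz, e, -⟩ := hconj g hg
    exact mem_nbhd.2 (by rw [e, mul_inv_cancel_right]; exact hz)
  by_cases hS : ∃ g ∈ (S : Subgroup G), g ∉ Cn w
  · obtain ⟨g, hg, hgn⟩ := hS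
    exact ⟨S, w, g, hw, hwZ, hw2, hSn, hg, hgn⟩
  exfalso
  push Not at hS
  have hab : ∀ (P : Sylow 2 G), ∀ a ∈ (P : Subgroup G), ∀ b ∈ (P : Subgroup G), Commute a b := by
    intro P a ha b hb
    obtain ⟨c, hc⟩ := MulAction.exists_smul_eq G S P
    rw [← hc, Sylow.coe_subgroup_smul] at ha hb
    obtain ⟨a', ha', rfl⟩ := ha
    obtain ⟨b', hb', rfl⟩ := hb
    exact (F.commute hwZ (hS a' ha') (hS b' hb')).map (MulAut.conj c).toMonoidHom
  have hkey : ∀ x : G, x ∉ center G → x ^ 2 ∈ center G → nbhd x ≤ Cn x := by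
    intro x hxZ hx2 g hg
    by_contra hgn
    obtain ⟨t, z, hz, hxe, hte, -, ht2⟩ := exists_two_part hx2
    subst hxe
    have htZ : t ∉ center G := fun h => hxZ (mul_mem hz h)
    rw [nbhd_mul_center hz] at hg
    rw [Cn_mul_center hz] at hgn
    obtain ⟨hg2, -⟩ := F.nbhd_sq htZ ht2 hg hgn
    obtain ⟨g₂, z', hz', hge, hge2, -, -⟩ := exists_two_part hg2
    subst hge
    have hg' : g₂ ∈ nbhd t := by
      simpa using mul_mem (center_le_nbhd t (inv_mem hz')) hg
    have hgn' : g₂ ∉ Cn t := fun h => hgn (mul_mem (center_le_Cn t hz') h)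
    obtain ⟨c, hcdef⟩ : ∃ c, c = g₂ * t * g₂⁻¹ * t⁻¹ := ⟨_, rfl⟩
    have hcZ : c ∈ center G := hcdef ▸ mem_nbhd.1 hg'
    have hec : g₂ * t * g₂⁻¹ = c * t := by rw [hcdef]; group
    have hc2 : c ^ 2 = 1 := by
      have h1 : g₂ * t ^ 2 * g₂⁻¹ = c ^ 2 * t ^ 2 := by
        rw [← conj_pow, hec, (show Commute c t from (mem_center_iff.1 hcZ t).symm).mul_pow]
      rw [mem_center_iff.1 ht2 g₂, mul_inv_cancel_right] at h1
      exact mul_eq_right.1 h1.symm
    set L := zpowers t ⊔ zpowers c with hL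
    have hcp : PEl 2 c := by
      obtain ⟨k, -, hk⟩ := (Nat.dvd_prime_pow Nat.prime_two).1
        (orderOf_dvd_of_pow_eq_one (x := c) (n := 2 ^ 1) (by rwa [pow_one]))
      exact ⟨k, hk⟩
    have hLp : IsPGroup 2 L := hte.isPGroup.to_sup_of_normal_left' hcp.isPGroup (by
      rw [zpowers_le, Subgroup.mem_normalizer_iff]
      intro y
      rw [(mem_center_iff.1 hcZ y).symm, mul_inv_cancel_right])
    have hLn : zpowers g₂ ≤ Subgroup.normalizer (L : Set G) := by
      rw [zpowers_le]
      have hmap : L.map (MulAut.conj g₂).toMonoidHom = L := by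
        refine Subgroup.eq_of_le_of_card_ge ?_ (by rw [card_map_of_injective (MulEquiv.injective _)])
        rw [hL, Subgroup.map_sup, MonoidHom.map_zpowers, MonoidHom.map_zpowers, sup_le_iff, zpowers_le, zpowers_le]
        constructor
        · show g₂ * t * g₂⁻¹ ∈ L
          rw [hec]
          exact mul_mem (le_sup_right (a := zpowers t) (mem_zpowers c))
            (le_sup_left (b := zpowers c) (mem_zpowers t))
        · show g₂ * c * g₂⁻¹ ∈ L
          rw [mem_center_iff.1 hcZ g₂, mul_inv_cancel_right]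
          exact le_sup_right (a := zpowers t) (mem_zpowers c)
      rw [Subgroup.mem_normalizer_iff]
      intro y
      constructor
      · intro hy; exact hmap ▸ mem_map_of_mem _ hy
      · intro hy
        rw [← hmap] at hy
        obtain ⟨u, hu, hue⟩ := hy
        rwa [← show u = y by simpa using hue]
    obtain ⟨P, hP⟩ := (hLp.to_sup_of_normal_left' hge2.isPGroup hLn :
      IsPGroup 2 (L ⊔ zpowers g₂ : Subgroup G)).exists_le_sylow
    exact hgn' (mem_Cn.2 (hab P g₂ (hP (le_sup_right (a := L) (mem_zpowers g₂))) t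
      (hP (le_sup_left (b := zpowers g₂) (le_sup_left (b := zpowers c) (mem_zpowers t))))))
  set π := QuotientGroup.mk' (center G) with hπ
  have hcent : ∀ y : G ⧸ center G, orderOf y = 2 → ∃ x, π x = y ∧ x ∉ center G ∧
      centralizer ({y} : Set (G ⧸ center G)) = (Cn x).map π := by
    intro y hy
    obtain ⟨x, rfl⟩ := QuotientGroup.mk_surjective y
    have hxZ : x ∉ center G := fun h => by
      rw [(QuotientGroup.eq_one_iff x).2 h, orderOf_one] at hy; omega
    have hx2 : x ^ 2 ∈ center G := (QuotientGroup.eq_one_iff _).1 (by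
      rw [QuotientGroup.mk_pow, ← hy, pow_orderOf_eq_one])
    refine ⟨x, rfl, hxZ, ?_⟩
    rw [← le_antisymm (hkey x hxZ hx2) (Cn_le_nbhd x), nbhd,
      map_comap_eq_self_of_surjective (QuotientGroup.mk'_surjective _)]
    rfl
  have heven : Even (Nat.card (G ⧸ center G)) := by
    rw [even_iff_two_dvd]
    have h1 : orderOf (π w) = 2 := orderOf_eq_prime (by
      rw [← map_pow]; exact (QuotientGroup.eq_one_iff _).2 hw2)
      (fun h => hwZ ((QuotientGroup.eq_one_iff w).1 h))
    exact h1 ▸ orderOf_dvd_natCard _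
  have hns : ¬ Group.IsSolvable (G ⧸ center G) := fun h => F.hyp.ns (isSolvable_of_quotient_center h)
  rcases Cfsg.Agent.S2202.result heven (fun y hy => by
      obtain ⟨x, -, hxZ, e⟩ := hcent y hy
      rw [e]
      refine ⟨⟨fun a b => Subtype.ext ?_⟩⟩
      obtain ⟨a', ha', ea⟩ := a.2
      obtain ⟨b', hb', eb⟩ := b.2
      show (a : G ⧸ center G) * b = b * a
      rw [← ea, ← eb, ← map_mul, ← map_mul, (F.commute hxZ ha' hb').eq]) with
    h | h | ⟨K, hK, hKfin, A, hA, hAf, hchar, -, ⟨e⟩⟩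
  · obtain ⟨P⟩ : Nonempty (Sylow 2 (G ⧸ center G)) := inferInstance
    obtain ⟨ψ, -, hψ⟩ := CfsgLib.Invol.exists_retraction_of_cyclic_sylow_two P (h P) heven
    haveI : Group.IsSolvable ψ.ker := Cfsg.Agent.S0205.result (by
      rw [← Nat.not_even_iff_odd, even_iff_two_dvd]
      intro hd
      obtain ⟨u, hu⟩ := exists_prime_orderOf_dvd_card' (G := ψ.ker) 2 hd
      have h1 := (hψ u).1 (MonoidHom.mem_ker.1 u.2)
      rw [Subgroup.orderOf_coe, hu] at h1
      exact absurd h1 (by decide))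
    haveI := P.2.isNilpotent
    exact hns (solvable_of_ker_le_range ψ.ker.subtype ψ (by rw [Subgroup.range_subtype]))
  · obtain ⟨P⟩ : Nonempty (Sylow 2 (G ⧸ center G)) := inferInstance
    haveI := h P
    haveI := P.2.isNilpotent
    refine hns (isSolvable_of_quotient (P : Subgroup (G ⧸ center G)) inferInstance
      (Cfsg.Agent.S0205.result ?_))
    rw [← index_eq_card, ← Nat.not_even_iff_odd, even_iff_two_dvd]
    exact P.not_dvd_index
  · haveI := hchar
    have hA1 : ∀ a : A, a = 1 := by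
      intro a
      have : e.symm (1, a) ∈ center (G ⧸ center G) := mem_center_iff.2 fun v => e.injective (Prod.ext
        (by simp) (by simp [mul_comm]))
      rw [F.quotient_center_eq_bot, mem_bot, MulEquiv.map_eq_one_iff, Prod.mk_eq_one] at this
      exact this.2
    set τ : Matrix.SpecialLinearGroup (Fin 2) K := ⟨!![1, 1; 0, 1], by simp [Matrix.det_fin_two]⟩
    have hτ2 : τ * τ = 1 := Subtype.ext (by
      show !![(1 : K), 1; 0, 1] * !![1, 1; 0, 1] = 1
      ext i j
      fin_cases i <;> fin_cases j <;> simp [Matrix.mul_apply, Fin.sum_univ_two, CharTwo.add_self_eq_zero])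
    have hτ1 : τ ≠ 1 := fun hh => by
      have := congrFun (congrFun (congrArg Subtype.val hh) 0) 1
      simp [τ] at this
    have ho : orderOf (e.symm (τ, 1)) = 2 := orderOf_eq_prime (by
      rw [← map_pow, pow_two, Prod.mk_mul_mk, hτ2, one_mul, ← Prod.one_eq_mk, map_one])
      (fun hh => hτ1 (by simpa using hh))
    obtain ⟨x, hx, hxZ, hcx⟩ := hcent _ ho
    obtain ⟨a, ha, haZ, hao⟩ := F.exists_odd_mem hxZ
    have hmem : π a ∈ centralizer ({e.symm (τ, 1)} : Set (G ⧸ center G)) := hcx ▸ mem_map_of_mem π ha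
    have hsq : π a ^ 2 = 1 := by
      have hc : Commute (e (π a)) (τ, (1 : A)) := by
        simpa using (Commute.map (mem_centralizer_singleton_iff.1 hmem) e.toMonoidHom)
      refine e.injective ?_
      rw [map_pow, map_one]
      refine Prod.ext ?_ (hA1 _)
      set M := (e (π a)).1
      have hM : M * τ = τ * M := congrArg Prod.fst hc.eq
      have hM' : (M : Matrix (Fin 2) (Fin 2) K) * !![1, 1; 0, 1] = !![1, 1; 0, 1] * (M : Matrix (Fin 2) (Fin 2) K) := congrArg Subtype.val hM
      have h00 := congrFun (congrFun hM' 0) 0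
      have h01 := congrFun (congrFun hM' 0) 1
      simp [Matrix.mul_apply, Fin.sum_univ_two] at h00 h01
      have hd : (M : Matrix (Fin 2) (Fin 2) K) 0 0 * (M : Matrix (Fin 2) (Fin 2) K) 1 1 = 1 := by
        have := M.2
        rw [Matrix.det_fin_two] at this
        simpa [h00] using this
      have h11 : (M : Matrix (Fin 2) (Fin 2) K) 1 1 = (M : Matrix (Fin 2) (Fin 2) K) 0 0 := by
        linear_combination -h01
      rw [h11] at hd
      show M ^ 2 = 1
      apply Subtype.ext
      rw [pow_two]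
      show (M : Matrix (Fin 2) (Fin 2) K) * M = 1
      ext i j
      fin_cases i <;> fin_cases j <;>
        simp [Matrix.mul_apply, Fin.sum_univ_two, h00, h11, hd, mul_comm, CharTwo.add_self_eq_zero] <;>
        rw [mul_comm] <;> exact CharTwo.add_self_eq_zero _
    exact haZ (mem_center_of_sq ((QuotientGroup.eq_one_iff _).1 (by rw [QuotientGroup.mk_pow]; exact hsq)) hao)

end Cfsg.Agent.ConjRankTwo
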