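import Cfsg.Agent.Lib.ConjRankTwo.Tools
import Cfsg.Agent.S4167

/-!
Conjugate rank two without proper inclusions of noncentral centralisers: all of these centralisers
are abelian, and the elements centralising an involution modulo the centre form at most a generalised
dihedral extension of the centraliser.
-/

set_option autoImplicit false
set_option linter.unusedSectionVars false
set_option linter.style.haveILetI false

namespace Cfsg.Agent.ConjRankTwo

open Subgroup CfsgLib.FGS.TwoLargest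

variable {G : Type*} [Group G] [Finite G] {n₁ n₂ : ℕ}

/-- The flat case. -/
structure Flat (G : Type*) [Group G] (n₁ n₂ : ℕ) : Prop where
  hyp : Hyp G n₁ n₂
  flat : ∀ u v : G, u ∉ center G → v ∉ center G → Cn u ≤ Cn v → Cn u = Cn v

/-- The elements commuting with `t` modulo the centre. -/
def nbhd (t : G) : Subgroup G :=
  (centralizer ({QuotientGroup.mk' (center G) t} : Set (G ⧸ center G))).comap
    (QuotientGroup.mk' (center G))

theorem mem_nbhd {t g : G} : g ∈ nbhd t ↔ g * t * g⁻¹ * t⁻¹ ∈ center G := by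
  rw [nbhd, mem_comap, mem_centralizer_singleton_iff, ← (QuotientGroup.eq_one_iff _),
    ← QuotientGroup.mk'_apply (center G) (g * t * g⁻¹ * t⁻¹), map_mul, map_mul, map_mul, map_inv, map_inv,
    mul_inv_eq_one, mul_inv_eq_iff_eq_mul]

theorem Cn_le_nbhd (t : G) : Cn t ≤ nbhd t := fun g hg => mem_nbhd.2 (by
  rw [(mem_Cn.1 hg).eq, mul_inv_cancel_right, mul_inv_cancel]; exact one_mem _)

theorem center_le_nbhd (t : G) : center G ≤ nbhd t := (center_le_Cn t).trans (Cn_le_nbhd t)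

theorem mem_nbhd_symm {t g : G} (h : g ∈ nbhd t) : t ∈ nbhd g := by
  rw [nbhd, mem_comap, mem_centralizer_singleton_iff] at h ⊢
  exact h.symm

theorem Cn_mul_center {t z : G} (hz : z ∈ center G) : Cn (z * t) = Cn t := by
  ext g
  rw [mem_Cn, mem_Cn]
  have hgz : Commute g z := mem_center_iff.1 hz g
  exact ⟨fun h => by simpa using hgz.inv_right.mul_right h, fun h => hgz.mul_right h⟩

theorem nbhd_mul_center {t z : G} (hz : z ∈ center G) : nbhd (z * t) = nbhd t := by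
  rw [nbhd, nbhd, map_mul, show QuotientGroup.mk' (center G) z = 1 from
    (QuotientGroup.eq_one_iff z).2 hz, one_mul]

theorem mem_center_of_sq {a : G} (h : a ^ 2 ∈ center G) (ho : (orderOf a).Coprime 2) :
    a ∈ center G := by
  obtain ⟨j, hj⟩ := exists_pow_eq_self_of_coprime ho.symm
  exact hj ▸ pow_mem h j

/-- An element squaring into the centre is a `2`-element up to the centre. -/
theorem exists_two_part {x : G} (h : x ^ 2 ∈ center G) :
    ∃ t z : G, z ∈ center G ∧ x = z * t ∧ PEl 2 t ∧ t ∈ zpowers x ∧ t ^ 2 ∈ center G := by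
  haveI : Fact (Nat.Prime 2) := ⟨Nat.prime_two⟩
  obtain ⟨a, b, hab, ha, hb, hae, hbo⟩ := CfsgLib.Cores.exists_pow_mul_pow 2 x
  have hsq : ∀ c ∈ zpowers x, c ^ 2 ∈ center G := by
    rintro c ⟨i, rfl⟩
    rw [← zpow_natCast, ← zpow_mul, mul_comm, zpow_mul, zpow_natCast]
    exact zpow_mem h i
  have hbZ : b ∈ center G := mem_center_of_sq (hsq b hb) hbo
  refine ⟨a, b, hbZ, ?_, hae, ha, hsq a ha⟩
  rw [hab]
  exact mem_center_iff.1 hbZ a

variable (F : Flat G n₁ n₂)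
include F

theorem Flat.part_eq {x a : G} (ha : a ∈ zpowers x) (haZ : a ∉ center G) : Cn x = Cn a :=
  F.flat x a (not_center_of_le (le_Cn_of_mem_zpowers ha) haZ) haZ (le_Cn_of_mem_zpowers ha)

/-- Every size is taken by prime power elements avoiding any given prime. -/
theorem Flat.exists_pEl {p : ℕ} (hp : p.Prime) {u : G} (hu : u ∉ center G) :
    ∃ r : ℕ, r.Prime ∧ r ≠ p ∧ ∃ v : G, PEl r v ∧ v ∉ center G ∧ cls v = cls u := by
  obtain ⟨x, hxp, hxZ, hx⟩ := F.hyp.both hp (n := cls u) (F.hyp.sizes u hu).symm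
  obtain ⟨r, hr, hrd, a, ha, hae, haZ⟩ := exists_part hxZ
  refine ⟨r, hr, fun e => hp.coprime_iff_not_dvd.1 hxp.symm (e ▸ hrd), a, hae, haZ, ?_⟩
  rw [← hx]
  exact congrArg Subgroup.index (F.part_eq ha haZ).symm

theorem Flat.exists_coprime_mem {p : ℕ} (hp : p.Prime) {u : G} (hu : u ∉ center G) :
    ∃ (r : ℕ) (w : G), r.Prime ∧ r ≠ p ∧ w ∈ Cn u ∧ PEl r w ∧ w ∉ center G := by
  obtain ⟨r, hr, hrp, v, hv, hvZ, hvu⟩ := F.exists_pEl hp hu
  haveI : Fact r.Prime := ⟨hr⟩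
  obtain ⟨w, hw, hwe, hwZ⟩ := exists_pEl_mem (u := u) hv hvZ (by
    have h1 := factorization_cls_add v r
    have h2 := factorization_cls_add u r
    rw [hvu] at h1
    omega)
  exact ⟨r, w, hr, hrp, hw, hwe, hwZ⟩

theorem Flat.le_of_coprime {p t : ℕ} [Fact p.Prime] [Fact t.Prime] (hpt : p ≠ t) {a e : G}
    (ha : PEl p a) (haZ : a ∉ center G) (he : e ∈ Cn a) (hee : PEl t e) : Cn a ≤ Cn e := by
  have hm := Cn_mul (mem_Cn.1 he).symm (ha.coprime hpt hee)
  have h := F.flat (a * e) a (not_center_of_le (hm.le.trans inf_le_left) haZ) haZ (hm.le.trans inf_le_left)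
  exact le_trans (le_of_eq (h.symm.trans hm)) inf_le_right

theorem Flat.commute {u x y : G} (hu : u ∉ center G) (hx : x ∈ Cn u) (hy : y ∈ Cn u) : Commute x y := by
  obtain ⟨p, hp, -, a, ha, hae, haZ⟩ := exists_part hu
  haveI : Fact p.Prime := ⟨hp⟩
  obtain ⟨r, w, hr, hrp, hw, hwe, hwZ⟩ := F.exists_coprime_mem hp haZ
  haveI : Fact r.Prime := ⟨hr⟩
  rw [F.part_eq ha haZ] at hx hy
  have haw : Cn a ≤ Cn w := F.le_of_coprime (Ne.symm hrp) hae haZ hw hwe
  have hmem : x ∈ centralizer ((Cn a : Subgroup G) : Set G) := mem_of_parts _ x fun t ht _ e he hee => by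
    haveI : Fact t.Prime := ⟨ht⟩
    have hea : e ∈ Cn a := zpowers_le.2 hx he
    have hle : Cn a ≤ Cn e := by
      by_cases htp : p = t
      · subst htp
        exact haw.trans (F.le_of_coprime hrp hwe hwZ (haw hea) hee)
      · exact F.le_of_coprime htp hae haZ hea hee
    exact mem_centralizer_iff.2 fun k hk => (mem_Cn.1 (hle hk)).eq
  exact (mem_centralizer_iff.1 hmem y hy).symm

/-- Commuting is transitive on noncentral elements. -/
theorem Flat.comp_eq {u v : G} (hu : u ∉ center G) (hv : v ∉ center G) (h : v ∈ Cn u) : Cn u = Cn v :=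
  F.flat u v hu hv fun _ hg => mem_Cn.2 (F.commute hu hg h)

theorem Flat.mem_center_of_two {u v x : G} (hu : u ∉ center G) (hv : v ∉ center G) (hne : Cn u ≠ Cn v)
    (hxu : x ∈ Cn u) (hxv : x ∈ Cn v) : x ∈ center G :=
  by_contra fun hx => hne ((F.comp_eq hu hx hxu).trans (F.comp_eq hv hx hxv).symm)

theorem Flat.exists_odd_mem {u : G} (hu : u ∉ center G) :
    ∃ a ∈ Cn u, a ∉ center G ∧ (orderOf a).Coprime 2 := by
  obtain ⟨r, w, hr, hr2, hw, hwe, hwZ⟩ := F.exists_coprime_mem Nat.prime_two hu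
  haveI : Fact r.Prime := ⟨hr⟩
  haveI : Fact (Nat.Prime 2) := ⟨Nat.prime_two⟩
  exact ⟨w, hw, hwZ, hwe.coprime_prime hr2⟩

variable {t : G} (htZ : t ∉ center G) (ht2 : t ^ 2 ∈ center G)
include htZ ht2

/-- An element outside `C(t)` commuting with `t` modulo the centre squares into the centre and
normalises `C(t)`. -/
theorem Flat.nbhd_sq {g : G} (hg : g ∈ nbhd t) (hgn : g ∉ Cn t) :
    g ^ 2 ∈ center G ∧ ∀ a ∈ Cn t, g * a * g⁻¹ ∈ Cn t := by
  obtain ⟨z, hz, e⟩ : ∃ z ∈ center G, g * t * g⁻¹ = z * t :=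
    ⟨_, mem_nbhd.1 hg, by group⟩
  have hcz : Commute t z := mem_center_iff.1 hz t
  have hz2 : z ^ 2 = 1 := by
    have h1 : g * t ^ 2 * g⁻¹ = z ^ 2 * t ^ 2 := by
      rw [← conj_pow, e, hcz.symm.mul_pow]
    rw [mem_center_iff.1 ht2 g, mul_inv_cancel_right] at h1
    exact mul_eq_right.1 h1.symm
  refine ⟨?_, fun a ha => ?_⟩
  · have h2 : g ^ 2 ∈ Cn t := by
      refine mem_Cn.2 (mul_inv_eq_iff_eq_mul.1 ?_)
      calc g ^ 2 * t * (g ^ 2)⁻¹ = g * (g * t * g⁻¹) * g⁻¹ := by rw [pow_two]; group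
        _ = g * z * t * g⁻¹ := by rw [e]; group
        _ = z * (g * t * g⁻¹) := by rw [mem_center_iff.1 hz g]; group
        _ = z ^ 2 * t := by rw [e, pow_two, mul_assoc]
        _ = t := by rw [hz2, one_mul]
    by_contra hg2
    have hgg : g ^ 2 ∈ Cn g := mem_Cn.2 (Commute.pow_self g 2)
    exact hgn ((F.comp_eq htZ hg2 h2).trans
      (F.comp_eq (fun h => hgn (center_le_Cn t h)) hg2 hgg).symm ▸ self_mem_Cn g)
  · rw [← Cn_mul_center (t := t) hz, ← e]
    exact mem_Cn.2 ((mem_Cn.1 ha).map (MulAut.conj g).toMonoidHom)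

/-- Such an element inverts `C(t)` modulo the centre. -/
theorem Flat.nbhd_inv {g : G} (hg : g ∈ nbhd t) (hgn : g ∉ Cn t) {a : G} (ha : a ∈ Cn t) :
    g * a * g⁻¹ * a ∈ center G := by
  obtain ⟨hg2, hn⟩ := F.nbhd_sq htZ ht2 hg hgn
  have h1 := (F.nbhd_sq htZ ht2 (mul_mem (Cn_le_nbhd t ha) hg)
    (fun h => hgn ((Cn t).mul_mem_cancel_left ha |>.1 h))).1
  have h2 : (a * g) ^ 2 * (g ^ 2)⁻¹ = a * (g * a * g⁻¹) := by rw [pow_two, pow_two]; group
  have h3 := mul_mem h1 (inv_mem hg2)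
  rw [h2, (F.commute htZ ha (hn a ha)).eq] at h3
  exact h3

/-- Two such elements multiply into `C(t)`. -/
theorem Flat.nbhd_mul {g h : G} (hg : g ∈ nbhd t) (hgn : g ∉ Cn t) (hh : h ∈ nbhd t) (hhn : h ∉ Cn t) :
    g * h ∈ Cn t := by
  by_contra hn
  obtain ⟨a, ha, haZ, hao⟩ := F.exists_odd_mem htZ
  have h1 := F.nbhd_inv htZ ht2 (mul_mem hg hh) hn ha
  have h2 := F.nbhd_inv htZ ht2 hh hhn ha
  have h3 := F.nbhd_inv htZ ht2 hg hgn ha
  obtain ⟨w, hw, e2⟩ : ∃ w ∈ center G, h * a * h⁻¹ = w * a⁻¹ := ⟨_, h2, by group⟩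
  obtain ⟨v, hv, e3⟩ : ∃ v ∈ center G, g * a * g⁻¹ = v * a⁻¹ := ⟨_, h3, by group⟩
  have e : g * h * a * (g * h)⁻¹ = w * (a * v⁻¹) := by
    calc _ = g * (h * a * h⁻¹) * g⁻¹ := by group
      _ = g * w * a⁻¹ * g⁻¹ := by rw [e2]; group
      _ = w * (g * a * g⁻¹)⁻¹ := by rw [mem_center_iff.1 hw g]; group
      _ = w * (a * v⁻¹) := by rw [e3]; group
  rw [e] at h1
  refine haZ (mem_center_of_sq ?_ hao)
  have h4 : a * v⁻¹ * a ∈ center G := by
    have := mul_mem (inv_mem hw) h1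
    simpa [mul_assoc] using this
  rw [mul_assoc, ← mem_center_iff.1 (inv_mem hv) a, ← mul_assoc] at h4
  have h5 := mul_mem h4 hv
  rw [inv_mul_cancel_right] at h5
  rwa [pow_two]

theorem Flat.card_nbhd {g : G} (hg : g ∈ nbhd t) (hgn : g ∉ Cn t) :
    Nat.card (nbhd t) = 2 * Nat.card (Cn t) := by
  have h : ((Cn t).subgroupOf (nbhd t)).index = 2 := by
    refine Subgroup.index_eq_two_iff.2 ⟨⟨g, hg⟩, fun b => ?_⟩
    rw [mem_subgroupOf, mem_subgroupOf, coe_mul]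
    by_cases hb : (b : G) ∈ Cn t
    · exact Or.inr ⟨hb, fun h => hgn ((Cn t).mul_mem_cancel_left hb |>.1 h)⟩
    · exact Or.inl ⟨F.nbhd_mul htZ ht2 b.2 hb hg hgn, hb⟩
  rw [← ((Cn t).subgroupOf (nbhd t)).card_mul_index, h,
    Nat.card_congr (subgroupOfEquivOfLe (Cn_le_nbhd t)).toEquiv, mul_comm]

/-- If `C(t)` is inverted then it has one involution modulo the centre. -/
theorem Flat.unique_involution {g : G} (hg : g ∈ nbhd t) (hgn : g ∉ Cn t) {a : G} (ha : a ∈ Cn t)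
    (ha2 : a ^ 2 ∈ center G) (haZ : a ∉ center G) : a * t ∈ center G := by
  obtain ⟨hg2, -⟩ := F.nbhd_sq htZ ht2 hg hgn
  have hgZ : g ∉ center G := fun h => hgn (center_le_Cn t h)
  have key : ∀ b ∈ Cn t, b ^ 2 ∈ center G → b ∉ center G → b ∈ nbhd g ∧ b ∉ Cn g := by
    intro b hb hb2 hbZ
    refine ⟨mem_nbhd_symm (mem_nbhd.2 ?_), fun h => hgn ?_⟩
    · have := mul_mem (F.nbhd_inv htZ ht2 hg hgn hb) (inv_mem hb2)
      rwa [show g * b * g⁻¹ * b * (b ^ 2)⁻¹ = g * b * g⁻¹ * b⁻¹ by group] at this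
    · exact (F.comp_eq htZ hbZ hb).trans (F.comp_eq hgZ hbZ h).symm ▸ self_mem_Cn g
  obtain ⟨h1, h1'⟩ := key a ha ha2 haZ
  obtain ⟨h2, h2'⟩ := key t (self_mem_Cn t) ht2 htZ
  exact F.mem_center_of_two htZ hgZ (fun e => hgn (e ▸ self_mem_Cn g))
    (mul_mem ha (self_mem_Cn t)) (F.nbhd_mul hgZ hg2 h1 h1' h2 h2')

end Cfsg.Agent.ConjRankTwo
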