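import Cfsg.Agent.Lib.ConjRankTwo.FlatAbelian
import Cfsg.Agent.Lib.FGS.TwoSizeNormal

/-!
Conjugate rank two, flat case: not every noncentral centraliser contains an involution modulo the
centre.
-/

set_option autoImplicit false
set_option linter.unusedSectionVars false
set_option linter.style.haveILetI false

namespace Cfsg.Agent.ConjRankTwo

open Subgroup CfsgLib.FGS.TwoLargest

variable {G : Type*} [Group G] [Finite G] {n₁ n₂ : ℕ}

/-- The noncentral elements conjugate into `C(x)`. -/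
def spread (x : G) : Set G := {y | y ∉ center G ∧ ∃ c : G, c * y * c⁻¹ ∈ Cn x}

theorem conj_not_center {y : G} (hy : y ∉ center G) (c : G) : c * y * c⁻¹ ∉ center G := fun h => hy (by
  have := Subgroup.Normal.conj_mem inferInstance _ h c⁻¹
  simpa [mul_assoc] using this)

theorem conj_sq_center {y : G} (hy : y ^ 2 ∈ center G) (c : G) : (c * y * c⁻¹) ^ 2 ∈ center G := by
  rw [conj_pow]; exact Subgroup.Normal.conj_mem inferInstance _ hy c

theorem conj_mem_Cn {x y : G} (h : y ∈ Cn x) (c : G) : c * y * c⁻¹ ∈ Cn (c * x * c⁻¹) :=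
  mem_Cn.2 ((mem_Cn.1 h).map (MulAut.conj c).toMonoidHom)

theorem conj_mem_nbhd {x y : G} (h : y ∈ nbhd x) (c : G) : c * y * c⁻¹ ∈ nbhd (c * x * c⁻¹) := by
  rw [mem_nbhd] at h ⊢
  have := Subgroup.Normal.conj_mem inferInstance _ h c
  rwa [show c * (y * x * y⁻¹ * x⁻¹) * c⁻¹ =
    c * y * c⁻¹ * (c * x * c⁻¹) * (c * y * c⁻¹)⁻¹ * (c * x * c⁻¹)⁻¹ by group] at this

variable (F : Flat G n₁ n₂)
include F

theorem Flat.conj_eq_Cn {x y : G} (hy : y ∉ center G) (hx : x ∉ center G) {c : G}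
    (h : c * y * c⁻¹ ∈ Cn x) : Cn x = Cn (c * y * c⁻¹) :=
  F.comp_eq hx (conj_not_center hy c) h

theorem Flat.spread_trans {x x' y : G} (hx : x ∉ center G) (hx'Z : x' ∉ center G)
    (hy : y ∉ center G) (h : x' ∈ Cn y) (hs : x' ∈ spread x) : y ∈ spread x := by
  obtain ⟨-, c, hc⟩ := hs
  refine ⟨hy, c, ?_⟩
  rw [F.conj_eq_Cn hx'Z hx hc]
  exact conj_mem_Cn (mem_Cn.2 (mem_Cn.1 h).symm) c

theorem Flat.spread_disjoint {x x' : G} (hx : x ∉ center G) (hx' : x' ∉ center G)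
    (h : x' ∉ spread x) : Disjoint (spread x) (spread x') := by
  refine Set.disjoint_left.2 fun y ⟨hy, c, hc⟩ ⟨_, d, hd⟩ => h ⟨hx', c * d⁻¹, ?_⟩
  rw [F.conj_eq_Cn hy hx hc]
  have h1 : x' ∈ Cn (d * y * d⁻¹) := (F.conj_eq_Cn hy hx' hd) ▸ self_mem_Cn x'
  have h2 := conj_mem_Cn h1 (c * d⁻¹)
  rwa [show c * d⁻¹ * (d * y * d⁻¹) * (c * d⁻¹)⁻¹ = c * y * c⁻¹ by group] at h2

variable {S : Sylow 2 G} {w g : G} (hwZ : w ∉ center G) (hw2 : w ^ 2 ∈ center G)
  (hSn : (S : Subgroup G) ≤ nbhd w) (hg : g ∈ (S : Subgroup G)) (hgn : g ∉ Cn w)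
include hwZ hw2 hSn hg hgn

/-- Every involution modulo the centre has a proper neighbourhood. -/
theorem Flat.proper_of_even {x : G} (hxZ : x ∉ center G) (hx2 : x ^ 2 ∈ center G) :
    ∃ h ∈ nbhd x, h ∉ Cn x := by
  haveI : Fact (Nat.Prime 2) := ⟨Nat.prime_two⟩
  obtain ⟨t, z, hz, hxe, hte, -, ht2⟩ := exists_two_part hx2
  subst hxe
  rw [nbhd_mul_center hz, Cn_mul_center hz]
  have htZ : t ∉ center G := fun h => hxZ (mul_mem hz h)
  obtain ⟨P, hP⟩ := hte.isPGroup.exists_le_sylow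
  obtain ⟨c, hc⟩ := MulAction.exists_smul_eq G S P
  have htP : t ∈ (P : Subgroup G) := hP (mem_zpowers t)
  rw [← hc, Sylow.coe_subgroup_smul] at htP
  obtain ⟨t₀, ht₀, hte'⟩ := htP
  have hte'' : c * t₀ * c⁻¹ = t := hte'
  set w' := c * w * c⁻¹
  have hw'Z : w' ∉ center G := conj_not_center hwZ c
  have hw'2 : w' ^ 2 ∈ center G := conj_sq_center hw2 c
  have htn : t ∈ nbhd w' := hte'' ▸ conj_mem_nbhd (hSn ht₀) c
  by_cases hw't : w' ∈ Cn t
  · have htw : t ∈ Cn w' := mem_Cn.2 (mem_Cn.1 hw't).symm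
    have hg' : c * g * c⁻¹ ∈ nbhd w' := conj_mem_nbhd (hSn hg) c
    have hgn' : c * g * c⁻¹ ∉ Cn w' := fun h => hgn (by
      simpa [w', mul_assoc] using conj_mem_Cn h c⁻¹)
    have hmul := F.unique_involution hw'Z hw'2 hg' hgn' htw ht2 htZ
    have e : nbhd t = nbhd w' := by
      rw [show t = t * w' * (w' ^ 2)⁻¹ * w' by rw [pow_two]; group]
      exact nbhd_mul_center (mul_mem hmul (inv_mem hw'2))
    exact ⟨c * g * c⁻¹, e ▸ hg', (F.comp_eq htZ hw'Z hw't) ▸ hgn'⟩
  · exact ⟨w', mem_nbhd_symm htn, hw't⟩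

theorem Flat.mem_nbhd_of_normalizes {x : G} (hxZ : x ∉ center G) (hx2 : x ^ 2 ∈ center G) {h : G}
    (hh : h * x * h⁻¹ ∈ Cn x) : h ∈ nbhd x := by
  obtain ⟨k, hk, hkn⟩ := F.proper_of_even hwZ hw2 hSn hg hgn hxZ hx2
  have h1 := F.unique_involution hxZ hx2 hk hkn hh (conj_sq_center hx2 h) (conj_not_center hxZ h)
  have h2 := mul_mem h1 (inv_mem hx2)
  rwa [show h * x * h⁻¹ * x * (x ^ 2)⁻¹ = h * x * h⁻¹ * x⁻¹ by rw [pow_two]; group, ← mem_nbhd] at h2

theorem Flat.card_spread {x : G} (hxZ : x ∉ center G) (hx2 : x ^ 2 ∈ center G) :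
    2 * Nat.card (Cn x) * (spread x).ncard =
      Nat.card G * (Nat.card (Cn x) - Nat.card (center G)) := by
  classical
  obtain ⟨k, hk, hkn⟩ := F.proper_of_even hwZ hw2 hSn hg hgn hxZ hx2
  have hnorm : ∀ h ∈ nbhd x, ∀ a ∈ Cn x, h * a * h⁻¹ ∈ Cn x := by
    intro h hh a ha
    by_cases hn : h ∈ Cn x
    · exact mul_mem (mul_mem hn ha) (inv_mem hn)
    · exact (F.nbhd_sq hxZ hx2 hh hn).2 a ha
  let A₀ : Set G := (Cn x : Set G) \ (center G : Set G)
  have hA₀ : A₀.ncard = Nat.card (Cn x) - Nat.card (center G) := by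
    rw [Set.ncard_sdiff (fun z hz => center_le_Cn x hz), ← Nat.card_coe_set_eq, ← Nat.card_coe_set_eq]
    rfl
  let Φ : (G ⧸ nbhd x) × A₀ → spread x := fun p =>
    ⟨p.1.out * (p.2 : G) * p.1.out⁻¹, conj_not_center p.2.2.2 _, p.1.out⁻¹, by
      simpa [mul_assoc] using p.2.2.1⟩
  have hΦ : Function.Bijective Φ := by
    constructor
    · rintro ⟨q₁, a₁, ha₁, ha₁Z⟩ ⟨q₂, a₂, ha₂, ha₂Z⟩ h
      have h' : q₁.out * a₁ * q₁.out⁻¹ = q₂.out * a₂ * q₂.out⁻¹ := congrArg Subtype.val h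
      set d := q₂.out⁻¹ * q₁.out with hd
      have h'' : d * a₁ * d⁻¹ = a₂ := by
        calc _ = q₂.out⁻¹ * (q₁.out * a₁ * q₁.out⁻¹) * q₂.out := by rw [hd]; group
          _ = _ := by rw [h']; group
      have hdn : d ∈ nbhd x := by
        refine F.mem_nbhd_of_normalizes hwZ hw2 hSn hg hgn hxZ hx2 ?_
        have h1 : x ∈ Cn a₁ := mem_Cn.2 (mem_Cn.1 ha₁).symm
        have h2 := conj_mem_Cn h1 d
        rwa [h'', ← F.comp_eq hxZ ha₂Z ha₂] at h2
      obtain rfl : q₁ = q₂ := by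
        rw [← QuotientGroup.out_eq' q₁, ← QuotientGroup.out_eq' q₂, QuotientGroup.eq]
        simpa [hd] using inv_mem hdn
      have : a₁ = a₂ := mul_left_cancel (mul_right_cancel h')
      subst this; rfl
    · rintro ⟨y, hyZ, c, hc⟩
      obtain ⟨n, hn⟩ := QuotientGroup.mk_out_eq_mul (nbhd x) c⁻¹
      refine ⟨(QuotientGroup.mk c⁻¹, ⟨(n : G)⁻¹ * (c * y * c⁻¹) * (n : G)⁻¹⁻¹,
        hnorm _ (inv_mem n.2) _ hc, conj_not_center (conj_not_center hyZ c) _⟩), Subtype.ext ?_⟩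
      show (QuotientGroup.mk c⁻¹ : G ⧸ nbhd x).out * _ * _ = y
      rw [hn]; group
  rw [← Nat.card_coe_set_eq, ← Nat.card_congr (Equiv.ofBijective Φ hΦ), Nat.card_prod,
    Nat.card_coe_set_eq, hA₀, ← index_eq_card, ← mul_assoc, ← F.card_nbhd hxZ hx2 hk hkn,
    (nbhd x).card_mul_index]

omit hwZ hw2 hSn hg hgn in
theorem Flat.three_mul_le {x : G} (hxZ : x ∉ center G) :
    3 * Nat.card (center G) ≤ Nat.card (Cn x) := by
  obtain ⟨a, ha, haZ, hao⟩ := F.exists_odd_mem hxZ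
  set π := QuotientGroup.mk' (center G)
  have e := TwoSizeNormal.card_eq_inf_mul_map (Cn x) (center G)
  rw [inf_eq_right.2 (center_le_Cn x)] at e
  rw [e, mul_comm]
  refine Nat.mul_le_mul_left _ ?_
  have h1 : orderOf (π a) ∣ Nat.card ((Cn x).map π) := Subgroup.orderOf_dvd_natCard _ (mem_map_of_mem π ha)
  refine le_trans ?_ (Nat.le_of_dvd Nat.card_pos h1)
  have h2 : orderOf (π a) ∣ orderOf a := orderOf_map_dvd π a
  have h3 : orderOf (π a) ≠ 1 := fun h =>
    haZ ((QuotientGroup.eq_one_iff a).1 (orderOf_eq_one_iff.1 h))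
  have h4 : orderOf (π a) ≠ 2 := fun h =>
    Nat.prime_two.coprime_iff_not_dvd.1 hao.symm (h ▸ h2)
  have := orderOf_pos (π a)
  omega

/-- Some noncentral centraliser contains no involution modulo the centre. -/
theorem Flat.exists_odd_comp : ∃ u : G, u ∉ center G ∧ ∀ x ∈ Cn u, x ^ 2 ∈ center G → x ∈ center G := by
  by_contra hcon
  push Not at hcon
  have hne : ∀ x : G, x ∉ center G → ∃ y : G, y ∉ center G ∧ y ∉ spread x := by
    intro x hx
    by_contra hall
    push Not at hall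
    refine hx (Cn_eq_top.1 (CfsgLib.FGS.eq_top_of_forall_exists_conj fun y => ?_))
    by_cases hy : y ∈ center G
    · exact ⟨1, by simpa using center_le_Cn x hy⟩
    · exact (hall y hy).2
  have hfull : ∀ s : Set G, s ⊆ {y | y ∉ center G} → s.ncard + Nat.card (center G) ≤ Nat.card G := by
    intro s hs
    rw [← Set.ncard_univ G, show Nat.card (center G) = ((center G : Set G)).ncard from
      Nat.card_coe_set_eq _, ← Set.ncard_union_eq (Set.disjoint_left.2 fun y h1 h2 => hs h1 h2)]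
    exact Set.ncard_le_ncard (Set.subset_univ _)
  have hsub : ∀ x : G, spread x ⊆ {y | y ∉ center G} := fun x y hy => hy.1
  obtain ⟨x, -, hx2, hx⟩ := hcon w hwZ
  obtain ⟨y, hy, hyx⟩ := hne x hx
  obtain ⟨x', hx'y, hx'2, hx'⟩ := hcon y hy
  have hx'x : x' ∉ spread x := fun h => hyx (F.spread_trans hx hx' hy hx'y h)
  have hd := F.spread_disjoint hx hx' hx'x
  have c1 := F.card_spread hwZ hw2 hSn hg hgn hx hx2
  have c2 := F.card_spread hwZ hw2 hSn hg hgn hx' hx'2
  have t1 := F.three_mul_le hx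
  have t2 := F.three_mul_le hx'
  have hz : 0 < Nat.card (center G) := Nat.card_pos
  have key : ∀ {a U : ℕ}, 3 * Nat.card (center G) ≤ a →
      2 * a * U = Nat.card G * (a - Nat.card (center G)) → Nat.card G ≤ 3 * U := by
    intro a U h1 h2
    have h3 : 2 * a * Nat.card G ≤ 2 * a * (3 * U) := by
      calc 2 * a * Nat.card G = Nat.card G * (2 * a) := mul_comm _ _
        _ ≤ Nat.card G * (3 * (a - Nat.card (center G))) := Nat.mul_le_mul_left _ (by omega)
        _ = 3 * (2 * a * U) := by rw [h2]; ring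
        _ = _ := by ring
    exact Nat.le_of_mul_le_mul_left h3 (by omega)
  by_cases hex : ∃ v : G, v ∉ center G ∧ v ∉ spread x ∧ v ∉ spread x'
  · obtain ⟨v, hv, hv1, hv2⟩ := hex
    obtain ⟨x'', hx''v, hx''2, hx''⟩ := hcon v hv
    have hd1 := F.spread_disjoint hx hx'' fun h => hv1 (F.spread_trans hx hx'' hv hx''v h)
    have hd2 := F.spread_disjoint hx' hx'' fun h => hv2 (F.spread_trans hx' hx'' hv hx''v h)
    have c3 := F.card_spread hwZ hw2 hSn hg hgn hx'' hx''2
    have := hfull (spread x ∪ spread x' ∪ spread x'') (by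
      rintro u ((h | h) | h) <;> exact hsub _ h)
    rw [Set.ncard_union_eq (Set.disjoint_union_left.2 ⟨hd1, hd2⟩), Set.ncard_union_eq hd] at this
    have := key t1 c1
    have := key t2 c2
    have := key (F.three_mul_le hx'') c3
    omega
  · push Not at hex
    have hU : (spread x).ncard + (spread x').ncard + Nat.card (center G) = Nat.card G := by
      rw [show Nat.card (center G) = ((center G : Set G)).ncard from Nat.card_coe_set_eq _,
        ← Set.ncard_union_eq hd, ← Set.ncard_union_eq (Set.disjoint_left.2 fun u h1 h2 => by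
          rcases h1 with h | h <;> exact hsub _ h h2), ← Set.ncard_univ G]
      congr 1
      refine Set.eq_univ_of_forall fun u => ?_
      by_cases hu : u ∈ center G
      · exact Or.inr hu
      · by_cases hu1 : u ∈ spread x
        · exact Or.inl (Or.inl hu1)
        · exact Or.inl (Or.inr (hex u hu hu1))
    obtain ⟨k, hk, hkn⟩ := F.proper_of_even hwZ hw2 hSn hg hgn hx hx2
    have hG : 2 * Nat.card (Cn x) ≤ Nat.card G := by
      rw [← F.card_nbhd hx hx2 hk hkn]; exact Subgroup.card_le_card_group _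
    set a := Nat.card (Cn x)
    set b := Nat.card (Cn x')
    set z := Nat.card (center G)
    obtain ⟨a', ha'⟩ : ∃ a', a = a' + z := ⟨a - z, by omega⟩
    obtain ⟨b', hb'⟩ : ∃ b', b = b' + z := ⟨b - z, by omega⟩
    rw [show a - z = a' by omega] at c1
    rw [show b - z = b' by omega] at c2
    have e1 : 2 * a * b * ((spread x).ncard + (spread x').ncard) = Nat.card G * (a' * b + b' * a) := by
      calc _ = b * (2 * a * (spread x).ncard) + a * (2 * b * (spread x').ncard) := by ring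
        _ = _ := by rw [c1, c2]; ring
    have e2 : 2 * a * b * z = z * (Nat.card G * (a + b)) := by
      zify at e1 hU ha' hb' ⊢
      linear_combination (2 * (a : ℤ) * b) * hU - e1 +
        (Nat.card G : ℤ) * b * ha' + (Nat.card G : ℤ) * a * hb'
    have e3 : 2 * a * b = Nat.card G * (a + b) := Nat.eq_of_mul_eq_mul_left hz (by linarith)
    have e4 : 2 * a * (a + b) ≤ Nat.card G * (a + b) := Nat.mul_le_mul_right _ hG
    have e5 : 0 < a * a := Nat.mul_pos (by omega) (by omega)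
    nlinarith [e3, e4, e5]

end Cfsg.Agent.ConjRankTwo
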