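import Cfsg.Agent.Lib.ConjRankTwo.FlatCount
import Cfsg.Agent.Lib.Solvable.Basic

/-!
Conjugate rank two, flat case: the centralisers with an involution modulo the centre have equal
orders and the involutions of the central quotient form one class.
-/

set_option autoImplicit false
set_option linter.unusedSectionVars false
set_option linter.style.haveILetI false

namespace Cfsg.Agent.ConjRankTwo

open Subgroup CfsgLib.FGS.TwoLargest

variable {G : Type*} [Group G] [Finite G] {n₁ n₂ : ℕ}

/-- A noncentral element with a power in the centre `2`-step wise has a power squaring into it. -/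
theorem exists_sq_center {v : G} (hv : PEl 2 v) (hvZ : v ∉ center G) :
    ∃ y ∈ zpowers v, y ∉ center G ∧ y ^ 2 ∈ center G := by
  obtain ⟨k, hk⟩ := hv
  have key : ∀ (n : ℕ) (y : G), y ∈ zpowers v → y ∉ center G → y ^ 2 ^ n ∈ center G →
      ∃ y' ∈ zpowers v, y' ∉ center G ∧ y' ^ 2 ∈ center G := by
    intro n
    induction n with
    | zero => intro y _ hyZ h; exact absurd (by simpa using h) hyZ
    | succ n ih =>
      intro y hy hyZ h
      by_cases h2 : y ^ 2 ∈ center G
      · exact ⟨y, hy, hyZ, h2⟩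
      · exact ih (y ^ 2) (pow_mem hy 2) h2 (by rwa [← pow_mul, ← pow_succ'])
  exact key k v (mem_zpowers v) hvZ (by rw [← hk, pow_orderOf_eq_one]; exact one_mem _)

variable (F : Flat G n₁ n₂) {S : Sylow 2 G} {w g : G} (hwZ : w ∉ center G) (hw2 : w ^ 2 ∈ center G)
  (hSn : (S : Subgroup G) ≤ nbhd w) (hg : g ∈ (S : Subgroup G)) (hgn : g ∉ Cn w)
include F hwZ hw2 hSn hg hgn

/-- A centraliser without involution modulo the centre has its own order, shared by no other
centraliser with one. -/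
theorem Flat.two_sizes : ∃ u : G, u ∉ center G ∧ (∀ x ∈ Cn u, x ^ 2 ∈ center G → x ∈ center G) ∧
    (∀ x : G, x ∉ center G → x ^ 2 ∈ center G → Nat.card (Cn x) = Nat.card (Cn w)) ∧
    (∀ v : G, v ∉ center G → Nat.card (Cn v) = Nat.card (Cn w) ∨ Nat.card (Cn v) = Nat.card (Cn u)) ∧
    Nat.card (Cn u) ≠ Nat.card (Cn w) := by
  haveI : Fact (Nat.Prime 2) := ⟨Nat.prime_two⟩
  obtain ⟨u, hu, hodd⟩ := F.exists_odd_comp hwZ hw2 hSn hg hgn
  have hne : ∀ x : G, x ∉ center G → x ^ 2 ∈ center G → Nat.card (Cn x) ≠ Nat.card (Cn u) := by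
    intro x hxZ hx2 he
    obtain ⟨t, z, hz, hxe, hte, -, ht2⟩ := exists_two_part hx2
    subst hxe
    rw [Cn_mul_center hz] at he
    have htZ : t ∉ center G := fun h => hxZ (mul_mem hz h)
    obtain ⟨v, hv, hve, hvZ⟩ := exists_pEl_mem (u := u) hte htZ (by rw [he])
    obtain ⟨y, hy, hyZ, hy2⟩ := exists_sq_center hve hvZ
    exact hyZ (hodd y (zpowers_le.2 hv hy) hy2)
  have hcard : ∀ a b : G, Nat.card (Cn a) = Nat.card (Cn b) ↔ cls a = cls b := by
    intro a b
    have h1 := (Cn a).card_mul_index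
    have h2 := (Cn b).card_mul_index
    constructor
    · intro h
      rw [← h, ← h1] at h2
      exact Nat.eq_of_mul_eq_mul_left Nat.card_pos h2.symm
    · intro h
      rw [show (Cn b).index = (Cn a).index from h.symm, ← h1] at h2
      exact Nat.eq_of_mul_eq_mul_right (Nat.pos_of_ne_zero index_ne_zero_of_finite) h2.symm
  have hwu := hne w hwZ hw2
  have hall : ∀ v : G, v ∉ center G →
      Nat.card (Cn v) = Nat.card (Cn w) ∨ Nat.card (Cn v) = Nat.card (Cn u) := by
    intro v hv
    rw [Ne, hcard] at hwu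
    rw [hcard, hcard]
    rcases F.hyp.sizes v hv with a | a <;> rcases F.hyp.sizes u hu with b | b <;>
      rcases F.hyp.sizes w hwZ with c | c <;> omega
  exact ⟨u, hu, hodd, fun x hxZ hx2 => (hall x hxZ).resolve_right (hne x hxZ hx2), hall, hwu.symm⟩

/-- The involutions of the central quotient are all conjugate. -/
theorem Flat.isConj_involution (hwS : w ∈ (S : Subgroup G)) {x : G} (hxZ : x ∉ center G) (hx2 : x ^ 2 ∈ center G) :
    IsConj (QuotientGroup.mk' (center G) x) (QuotientGroup.mk' (center G) w) := by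
  haveI : Fact (Nat.Prime 2) := ⟨Nat.prime_two⟩
  obtain ⟨u, -, -, hevencard, -, -⟩ := F.two_sizes hwZ hw2 hSn hg hgn
  set π := QuotientGroup.mk' (center G) with hπ
  have hπ1 : ∀ {y : G}, π y = 1 ↔ y ∈ center G := fun {y} => QuotientGroup.eq_one_iff y
  obtain ⟨t, z, hz, hxe, hte, -, ht2⟩ := exists_two_part hx2
  subst hxe
  rw [map_mul, hπ1.2 hz, one_mul]
  have htZ : t ∉ center G := fun h => hxZ (mul_mem hz h)
  obtain ⟨k, hk, hkn⟩ := F.proper_of_even hwZ hw2 hSn hg hgn htZ ht2
  have hN : Nat.card (nbhd t) = Nat.card (nbhd w) := by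
    rw [F.card_nbhd htZ ht2 hk hkn, F.card_nbhd hwZ hw2 (hSn hg) hgn, hevencard t htZ ht2]
  have htN : t ∈ nbhd t := Cn_le_nbhd t (self_mem_Cn t)
  obtain ⟨P₀, hP₀⟩ := (IsPGroup.of_card (p := 2) (G := zpowers (⟨t, htN⟩ : nbhd t)) (n := hte.choose) (by
    rw [Nat.card_zpowers, Subgroup.orderOf_mk]; exact hte.choose_spec)).exists_le_sylow
  obtain ⟨P, hP⟩ := (P₀.2.map (nbhd t).subtype).exists_le_sylow
  have hPN : (P : Subgroup G) ≤ nbhd t := by
    have heq : (P₀ : Subgroup (nbhd t)).map (nbhd t).subtype = (P : Subgroup G) := by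
      refine Subgroup.eq_of_le_of_card_ge hP ?_
      rw [card_map_of_injective (subtype_injective _), P₀.card_eq_multiplicity, hN,
        P.card_eq_multiplicity]
      refine Nat.pow_le_pow_right two_pos ?_
      have := card_dvd_of_le hSn
      rwa [S.card_eq_multiplicity, Nat.prime_two.pow_dvd_iff_le_factorization Nat.card_pos.ne'] at this
    rw [← heq]
    exact map_subtype_le _
  have htP : t ∈ (P : Subgroup G) := hP ⟨⟨t, htN⟩, hP₀ (mem_zpowers _), rfl⟩
  obtain ⟨c, hc⟩ := MulAction.exists_smul_eq G P S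
  set x := c * t * c⁻¹
  have hxS : x ∈ (S : Subgroup G) := by
    rw [← hc, Sylow.coe_subgroup_smul]
    exact ⟨t, htP, rfl⟩
  have hSx : (S : Subgroup G) ≤ nbhd x := by
    rw [← hc, Sylow.coe_subgroup_smul]
    rintro _ ⟨p, hp, rfl⟩
    exact conj_mem_nbhd (hPN hp) c
  have hxZ : x ∉ center G := conj_not_center htZ c
  have hx2 : x ^ 2 ∈ center G := conj_sq_center ht2 c
  suffices h : IsConj (π x) (π w) from
    (isConj_iff.2 ⟨π c, by simp [x]⟩ : IsConj (π t) (π x)).trans h
  by_cases hxw : x ∈ Cn w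
  · have h1 := hπ1.2 (F.unique_involution hwZ hw2 (hSn hg) hgn hxw hx2 hxZ)
    have h2 := hπ1.2 hw2
    rw [map_mul] at h1
    rw [map_pow, pow_two] at h2
    rw [mul_right_cancel (h1.trans h2.symm)]
  have hfour : ∀ s ∈ (S : Subgroup G), π s = 1 ∨ π s = π w ∨ π s = π x ∨ π s = π w * π x := by
    have hA : ∀ s ∈ (S : Subgroup G), s ∈ Cn w → π s = 1 ∨ π s = π w := by
      intro s hs hsw
      have h1 := F.nbhd_inv hwZ hw2 (hSn hxS) hxw hsw
      have h2 := mem_nbhd.1 (mem_nbhd_symm (hSx hs))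
      have h4 := mul_mem (inv_mem h2) h1
      rw [show (x * s * x⁻¹ * s⁻¹)⁻¹ * (x * s * x⁻¹ * s) = s ^ 2 by rw [pow_two]; group] at h4
      by_cases hsZ : s ∈ center G
      · exact Or.inl (hπ1.2 hsZ)
      · have h5 := hπ1.2 (F.unique_involution hwZ hw2 (hSn hg) hgn hsw h4 hsZ)
        have h6 := hπ1.2 hw2
        rw [map_mul] at h5
        rw [map_pow, pow_two] at h6
        exact Or.inr (mul_right_cancel (h5.trans h6.symm))
    intro s hs
    by_cases hsw : s ∈ Cn w
    · exact (hA s hs hsw).imp id Or.inl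
    · have hxi : π x * π x = 1 := by rw [← map_mul, ← pow_two]; exact hπ1.2 hx2
      rcases hA (s * x) (mul_mem hs hxS) (F.nbhd_mul hwZ hw2 (hSn hs) hsw (hSn hxS) hxw) with h | h <;>
        rw [map_mul] at h
      · exact Or.inr (Or.inr (Or.inl (mul_right_cancel (h.trans hxi.symm))))
      · refine Or.inr (Or.inr (Or.inr ?_))
        rw [← h, mul_assoc, hxi, mul_one]
  have hwx : Commute (π w) (π x) := by
    rw [Commute, SemiconjBy, ← map_mul, ← map_mul]
    have h2 := hπ1.2 (mem_nbhd.1 (hSn hxS))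
    simp only [map_mul, map_inv, mul_inv_eq_one, mul_inv_eq_iff_eq_mul, one_mul] at h2
    simp only [map_mul, h2]
  have hω1 : π w ≠ 1 := fun h => hwZ (hπ1.1 h)
  have hξ1 : π x ≠ 1 := fun h => hxZ (hπ1.1 h)
  have hne : π w ≠ π x := fun h => hxw (by
    have h1 : w⁻¹ * x ∈ center G := QuotientGroup.eq.1 h
    simpa using mul_mem (self_mem_Cn w) (center_le_Cn w h1))
  let Pb : Sylow 2 (G ⧸ center G) := S.mapSurjective (QuotientGroup.mk'_surjective (center G))
  have hPb : ∀ y ∈ (Pb : Subgroup (G ⧸ center G)), y = 1 ∨ y = π w ∨ y = π x ∨ y = π w * π x := by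
    intro y hy
    rw [Sylow.coe_mapSurjective] at hy
    obtain ⟨s, hs, rfl⟩ := hy
    exact hfour s hs
  have hcommP : (Pb : Subgroup (G ⧸ center G)) ≤
      centralizer ((Pb : Subgroup (G ⧸ center G)) : Set (G ⧸ center G)) := by
    intro a ha
    refine mem_centralizer_iff.2 fun b hb => ?_
    have key : ∀ y ∈ (Pb : Subgroup (G ⧸ center G)), Commute y (π w) ∧ Commute y (π x) := by
      intro y hy
      rcases hPb y hy with rfl | rfl | rfl | rfl
      · exact ⟨Commute.one_left _, Commute.one_left _⟩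
      · exact ⟨Commute.refl _, hwx⟩
      · exact ⟨hwx.symm, Commute.refl _⟩
      · exact ⟨(Commute.refl _).mul_left hwx.symm, hwx.mul_left (Commute.refl _)⟩
    obtain ⟨h1, h2⟩ := key b hb
    rcases hPb a ha with rfl | rfl | rfl | rfl
    · exact Commute.one_right b
    · exact h1
    · exact h2
    · exact h1.mul_right h2
  set N := Subgroup.normalizer ((Pb : Subgroup (G ⧸ center G)) : Set (G ⧸ center G)) with hNdef
  set C := centralizer ((Pb : Subgroup (G ⧸ center G)) : Set (G ⧸ center G)) with hCdef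
  by_cases hle : N ≤ C
  · exfalso
    have hcompl := MonoidHom.ker_transferSylow_isComplement' Pb hle
    set φ := MonoidHom.transferSylow Pb hle
    haveI : Group.IsSolvable φ.ker := Cfsg.Agent.S0205.result (by
      rw [← hcompl.index_eq_card, ← Nat.not_even_iff_odd, even_iff_two_dvd]
      exact Pb.not_dvd_index)
    haveI := Pb.2.isNilpotent
    exact F.hyp.ns (isSolvable_of_quotient_center
      (solvable_of_ker_le_range φ.ker.subtype φ (by rw [Subgroup.range_subtype])))
  obtain ⟨n, hn, hnC⟩ := SetLike.not_le_iff_exists.1 hle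
  haveI : (C.subgroupOf N).Normal := Subgroup.normal_subgroupOf_of_le_normalizer
    (CfsgLib.Solvable.normalizer_le_normalizer_centralizer _)
  have hd : Odd (C.subgroupOf N).index := by
    rw [← Nat.not_even_iff_odd, even_iff_two_dvd]
    intro h
    refine Pb.not_dvd_index (h.trans ((dvd_trans ?_ ⟨N.index, (relIndex_mul_index le_normalizer).symm⟩)))
    exact index_dvd_of_le fun y hy => hcommP hy
  have noswap : ∀ a b : G ⧸ center G, a ∈ (Pb : Subgroup (G ⧸ center G)) → n * a * n⁻¹ = b →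
      n * b * n⁻¹ = a → a = b := by
    intro a b ha h1 h2
    obtain ⟨j, hj⟩ := hd
    have hmem : n ^ (2 * j + 1) ∈ C := by
      have := Subgroup.pow_index_mem (C.subgroupOf N) (⟨n, hn⟩ : N)
      rw [hj, mem_subgroupOf] at this
      simpa using this
    have heven : ∀ i : ℕ, n ^ (2 * i) * a * (n ^ (2 * i))⁻¹ = a := by
      intro i
      induction i with
      | zero => simp
      | succ i ih =>
        calc _ = n * (n * (n ^ (2 * i) * a * (n ^ (2 * i))⁻¹) * n⁻¹) * n⁻¹ := by
              rw [show 2 * (i + 1) = 1 + (1 + 2 * i) by ring, pow_add, pow_add, pow_one]; group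
          _ = a := by rw [ih, h1, h2]
    have h3 : n ^ (2 * j + 1) * a * (n ^ (2 * j + 1))⁻¹ = a :=
      mul_inv_eq_iff_eq_mul.2 (mem_centralizer_iff.1 hmem a ha).symm
    have h4 : n ^ (2 * j + 1) * a * (n ^ (2 * j + 1))⁻¹ = b := by
      calc _ = n * (n ^ (2 * j) * a * (n ^ (2 * j))⁻¹) * n⁻¹ := by rw [pow_succ']; group
        _ = b := by rw [heven, h1]
    exact h3.symm.trans h4
  have hωP : π w ∈ (Pb : Subgroup (G ⧸ center G)) := by
    rw [Sylow.coe_mapSurjective]; exact mem_map_of_mem π hwS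
  have hξP : π x ∈ (Pb : Subgroup (G ⧸ center G)) := by
    rw [Sylow.coe_mapSurjective]; exact mem_map_of_mem π hxS
  have himg : ∀ y ∈ (Pb : Subgroup (G ⧸ center G)), y ≠ 1 →
      n * y * n⁻¹ = π w ∨ n * y * n⁻¹ = π x ∨ n * y * n⁻¹ = π w * π x := fun y hy hy1 =>
    (hPb _ ((Subgroup.mem_normalizer_iff.1 hn y).1 hy)).resolve_left fun h => hy1 (conj_eq_one_iff.1 h)
  have hinj : ∀ a b : G ⧸ center G, n * a * n⁻¹ = n * b * n⁻¹ → a = b := fun a b h =>
    mul_left_cancel (mul_right_cancel h)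
  rcases himg _ hωP hω1 with hw' | hw' | hw'
  · exfalso
    rcases himg _ hξP hξ1 with h | h | h
    · exact hne (hinj _ _ (hw'.trans h.symm))
    · refine hnC (mem_centralizer_iff.2 fun y hy => ?_)
      have cw : Commute (π w) n := (mul_inv_eq_iff_eq_mul.1 hw').symm
      have cx : Commute (π x) n := (mul_inv_eq_iff_eq_mul.1 h).symm
      rcases hPb y hy with rfl | rfl | rfl | rfl
      · simp
      · exact cw.eq
      · exact cx.eq
      · exact (cw.mul_left cx).eq
    · have h2 : n * (π w * π x) * n⁻¹ = π x := by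
        rw [show n * (π w * π x) * n⁻¹ = (n * π w * n⁻¹) * (n * π x * n⁻¹) by group, hw', h, ← mul_assoc,
          ← map_mul π w w, ← pow_two, hπ1.2 hw2, one_mul]
      exact hω1 (by simpa using noswap _ _ hξP h h2)
  · exact (isConj_iff.2 ⟨n, hw'⟩ : IsConj (π w) (π x)).symm
  · have hηP : π w * π x ∈ (Pb : Subgroup (G ⧸ center G)) := mul_mem hωP hξP
    have hη1 : π w * π x ≠ 1 := fun h => hne (by
      have h2 : π x * π x = 1 := by rw [← map_mul, ← pow_two]; exact hπ1.2 hx2
      exact mul_right_cancel (h.trans h2.symm))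
    rcases himg _ hηP hη1 with h | h | h
    · exact absurd (noswap _ _ hωP hw' h) (fun e => hξ1 (by simpa using e.symm))
    · exact (isConj_iff.2 ⟨n * n, by
        rw [show n * n * π w * (n * n)⁻¹ = n * (n * π w * n⁻¹) * n⁻¹ by group, hw', h]⟩ :
        IsConj (π w) (π x)).symm
    · exact absurd (hinj _ _ (hw'.trans h.symm)) (fun e => hξ1 (by simpa using e.symm))

end Cfsg.Agent.ConjRankTwo
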