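import Cfsg.Agent.Lib.ConjRankTwo.FlatInvol
import Cfsg.Agent.S3282

/-!
Conjugate rank two, flat case: the central quotient would have the order formula of `PSL(2, q)`,
which needs three different centraliser orders.
-/

set_option autoImplicit false
set_option linter.unusedSectionVars false
set_option linter.style.haveILetI false

namespace Cfsg.Agent.ConjRankTwo

open Subgroup CfsgLib.FGS.TwoLargest

variable {G : Type*} [Group G] [Finite G] {n₁ n₂ : ℕ} (F : Flat G n₁ n₂)
include F

theorem Flat.card_quotient_ne_twelve : Nat.card (G ⧸ center G) ≠ 12 := fun h =>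
  F.hyp.ns (isSolvable_of_quotient_center
    (CfsgLib.Char.isSolvable_of_card_eq_pow_mul_pow Nat.prime_two Nat.prime_three (a := 2) (b := 1)
      (by rw [h]; norm_num)))

/-- The flat case is impossible. -/
theorem Flat.false_of_flat : False := by
  haveI : Fact (Nat.Prime 2) := ⟨Nat.prime_two⟩
  obtain ⟨S, w, g, hwS, hwZ, hw2, hSn, hg, hgn⟩ := F.exists_proper
  obtain ⟨u, huZ, hodd, heven, hall, hne⟩ := F.two_sizes hwZ hw2 hSn hg hgn
  set π := QuotientGroup.mk' (center G) with hπ
  have hπ1 : ∀ {y : G}, π y = 1 ↔ y ∈ center G := fun {y} => QuotientGroup.eq_one_iff y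
  have hπs : Function.Surjective π := QuotientGroup.mk'_surjective (center G)
  have hgw : g ∈ nbhd w := hSn hg
  have hg2 := (F.nbhd_sq hwZ hw2 hgw hgn).1
  have hgZ : g ∉ center G := fun h => hgn (center_le_Cn w h)
  have ho : ∀ {y : G}, y ∉ center G → y ^ 2 ∈ center G → orderOf (π y) = 2 := fun {y} hy hy2 =>
    orderOf_eq_prime (by rw [← map_pow]; exact hπ1.2 hy2) (fun h => hy (hπ1.1 h))
  set K := (Cn w).map π with hKdef
  have hCt : centralizer ({π w} : Set (G ⧸ center G)) = (nbhd w).map π := by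
    rw [nbhd, map_comap_eq_self_of_surjective (QuotientGroup.mk'_surjective _)]
  have hKmem : ∀ y : G, π y ∈ K → y ∈ Cn w := by
    rintro y ⟨a, ha, hay⟩
    have h1 : a⁻¹ * y ∈ center G := QuotientGroup.eq.1 hay
    simpa using mul_mem ha (center_le_Cn w h1)
  obtain ⟨Q, D, hord, hQ, -, hQD, -, -, hD⟩ := Cfsg.Agent.S3282.result (π w) (ho hwZ hw2) K
    ⟨⟨by
      rintro ⟨_, a, ha, rfl⟩ ⟨_, b, hb, rfl⟩
      refine Subtype.ext ?_
      show π a * π b = π b * π a
      rw [← map_mul, ← map_mul, (F.commute hwZ ha hb).eq]⟩⟩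
    (by rw [hCt]; exact Subgroup.map_mono (Cn_le_nbhd w))
    (mem_map_of_mem π (self_mem_Cn w)) (π g) (ho hgZ hg2)
    (by rw [hCt]; exact mem_map_of_mem π hgw)
    (fun h => hgn (hKmem g h))
    (by
      rw [hCt]
      refine le_antisymm (sup_le (Subgroup.map_mono (Cn_le_nbhd w))
        (zpowers_le.2 (mem_map_of_mem π hgw))) ?_
      rintro _ ⟨h, hh, rfl⟩
      by_cases hhn : h ∈ Cn w
      · exact le_sup_left (b := zpowers (π g)) (mem_map_of_mem π hhn)
      · have h1 : π h = π (h * g) * π g := by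
          rw [← map_mul, mul_assoc, map_mul, ← pow_two, hπ1.2 hg2, mul_one]
        rw [h1]
        exact mul_mem (le_sup_left (b := zpowers (π g))
          (mem_map_of_mem π (F.nbhd_mul hwZ hw2 hh hhn hgw hgn)))
          (le_sup_right (a := (Cn w).map π) (mem_zpowers _)))
    (by
      refine le_antisymm ?_ (zpowers_le.2 ⟨mem_map_of_mem π (self_mem_Cn w), ?_⟩)
      · rintro _ ⟨⟨a, ha, rfl⟩, hc⟩
        by_cases haZ : a ∈ center G
        · rw [hπ1.2 haZ]; exact one_mem _
        have h1 : g ∈ nbhd a := mem_nbhd_symm (show a ∈ nbhd g by rw [nbhd, mem_comap]; exact hc)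
        have h4 := mul_mem (inv_mem (mem_nbhd.1 h1)) (F.nbhd_inv hwZ hw2 hgw hgn ha)
        rw [show (g * a * g⁻¹ * a⁻¹)⁻¹ * (g * a * g⁻¹ * a) = a ^ 2 by rw [pow_two]; group] at h4
        have h5 := hπ1.2 (F.unique_involution hwZ hw2 hgw hgn ha h4 haZ)
        have h6 := hπ1.2 hw2
        rw [map_mul] at h5
        rw [map_pow, pow_two] at h6
        rw [mul_right_cancel (h5.trans h6.symm)]
        exact mem_zpowers _
      · exact mem_comap.1 (mem_nbhd_symm hgw))
    (by
      rintro _ ⟨a, ha, rfl⟩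
      rw [eq_inv_iff_mul_eq_one, ← map_inv, ← map_mul, ← map_mul, ← map_mul]
      exact hπ1.2 (F.nbhd_inv hwZ hw2 hgw hgn ha))
    (by
      intro γ hγ
      obtain ⟨h, rfl⟩ := hπs γ
      rw [eq_bot_iff_forall]
      rintro _ ⟨⟨a, ha, rfl⟩, ⟨_, ⟨b, hb, rfl⟩, hba⟩⟩
      by_contra hne1
      have haZ : a ∉ center G := fun hh => hne1 (hπ1.2 hh)
      have hbZ : b ∉ center G := fun hh => hne1 (by rw [← hba, hπ1.2 hh, map_one])
      refine hγ ?_
      rw [hCt]
      refine mem_map_of_mem π (F.mem_nbhd_of_normalizes hwZ hw2 hSn hg hgn hwZ hw2 ?_)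
      have hba' : π (h * b * h⁻¹) = π a := by rw [map_mul, map_mul, map_inv]; exact hba
      have h1 : a⁻¹ * (h * b * h⁻¹) ∈ center G := QuotientGroup.eq.1 hba'.symm
      have h2 : h * b * h⁻¹ ∈ Cn w := by simpa using mul_mem ha (center_le_Cn w h1)
      rw [F.conj_eq_Cn hbZ hwZ h2]
      exact conj_mem_Cn (mem_Cn.2 (mem_Cn.1 hb).symm) h)
    (by
      intro x y hx hy
      have key : ∀ v : G ⧸ center G, orderOf v = 2 → IsConj v (π w) := by
        intro v hv
        obtain ⟨v', rfl⟩ := hπs v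
        refine F.isConj_involution hwZ hw2 hSn hg hgn hwS
          (fun hh => by rw [hπ1.2 hh, orderOf_one] at hv; omega)
          (hπ1.1 (by rw [map_pow, ← hv, pow_orderOf_eq_one]))
      exact (key x hx).trans (key y hy).symm)
  set q := Nat.card Q with hq
  have hD0 : 0 < Nat.card D := Nat.card_pos
  have hcard : ∀ v : G, Nat.card ((Cn v).map π) * Nat.card (center G) = Nat.card (Cn v) := fun v => by
    have e := TwoSizeNormal.card_eq_inf_mul_map (Cn v) (center G)
    rw [inf_eq_right.2 (center_le_Cn v)] at e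
    rw [e, mul_comm]
  have hzpos : 0 < Nat.card (center G) := Nat.card_pos
  set a' := Nat.card ((Cn w).map π) with ha'
  set c' := Nat.card ((Cn u).map π) with hc'
  have hval : ∀ v : G, v ∉ center G →
      Nat.card ((Cn v).map π) = a' ∨ Nat.card ((Cn v).map π) = c' := by
    intro v hv
    rcases hall v hv with h | h
    · exact Or.inl (Nat.eq_of_mul_eq_mul_right hzpos ((hcard v).trans (h.trans (hcard w).symm)))
    · exact Or.inr (Nat.eq_of_mul_eq_mul_right hzpos ((hcard v).trans (h.trans (hcard u).symm)))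
  have ha2 : 2 ∣ a' := by
    rw [← ho hwZ hw2]
    exact Subgroup.orderOf_dvd_natCard _ (mem_map_of_mem π (self_mem_Cn w))
  have hc3 : 3 ≤ c' := by
    have := F.three_mul_le huZ
    rw [← hcard u] at this
    exact Nat.le_of_mul_le_mul_right this hzpos
  have hmap : ∀ v : G, (Cn v).map π ≤ centralizer ({π v} : Set (G ⧸ center G)) := by
    rintro v _ ⟨a, ha, rfl⟩
    exact mem_centralizer_singleton_iff.2 ((mem_Cn.1 ha).map π).eq
  obtain ⟨x, hxQ, hx1⟩ : ∃ x ∈ Q, x ≠ 1 := Subgroup.bot_or_exists_ne_one Q |>.resolve_left fun h => by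
    have : q = 1 := by rw [hq, h, Subgroup.card_bot]
    omega
  obtain ⟨v, rfl⟩ := hπs x
  have hvQ : Nat.card ((Cn v).map π) ∣ q := card_dvd_of_le ((hmap v).trans (hQ _ hxQ hx1).le)
  have hcq : c' ∣ q := by
    rcases hval v (fun h => hx1 (hπ1.2 h)) with h | h
    · rw [h] at hvQ
      have := ha2.trans hvQ
      omega
    · exact h ▸ hvQ
  rcases eq_or_lt_of_le (Nat.succ_le_of_lt hD0) with hD1 | hD1
  · refine F.card_quotient_ne_twelve ?_
    have : q = 3 := by omega
    rw [this] at hord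
    omega
  obtain ⟨d, hdD, hd1⟩ : ∃ d ∈ D, d ≠ 1 := Subgroup.bot_or_exists_ne_one D |>.resolve_left fun h => by
    have : Nat.card D = 1 := by rw [h, Subgroup.card_bot]
    omega
  obtain ⟨hN, i, hi, hiD, hinv, hND⟩ := hD (zpowers d) (zpowers_le.2 hdD) (zpowers_ne_bot.2 hd1)
  have hNcard : Nat.card (Subgroup.normalizer (D : Set (G ⧸ center G))) = 2 * Nat.card D := by
    set N := Subgroup.normalizer (D : Set (G ⧸ center G)) with hNdef
    have hiN : i ∈ N := hND.ge (le_sup_right (a := D) (mem_zpowers i))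
    have htop : (zpowers i).subgroupOf N ⊔ D.subgroupOf N = ⊤ := by
      rw [← Subgroup.subgroupOf_sup (zpowers_le.2 hiN) le_normalizer, subgroupOf_eq_top, sup_comm]
      exact hND.le
    have h1 : (D.subgroupOf N).index = D.relIndex (zpowers i) := by
      rw [← relIndex_top_right, ← htop, relIndex_sup_right, relIndex_subgroupOf (zpowers_le.2 hiN)]
    have h2 : D.relIndex (zpowers i) ∣ 2 := by
      rw [← hi, ← Nat.card_zpowers]; exact relIndex_dvd_card D (zpowers i)
    have h3 : D.relIndex (zpowers i) ≠ 1 := fun h =>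
      hiD (relIndex_eq_one.1 h (mem_zpowers i))
    have h4 := (D.subgroupOf N).card_mul_index
    rw [h1, (Nat.prime_two.eq_one_or_self_of_dvd _ h2).resolve_left h3,
      Nat.card_congr (subgroupOfEquivOfLe le_normalizer).toEquiv] at h4
    omega
  obtain ⟨v', rfl⟩ := hπs d
  have hdN : Nat.card ((Cn v').map π) ∣ q - 1 := by
    have h1 : (Cn v').map π ≤ Subgroup.normalizer (D : Set (G ⧸ center G)) := by
      rw [← hN]
      refine (hmap v').trans fun y hy => ?_
      have hc : Commute y (π v') := mem_centralizer_singleton_iff.1 hy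
      rw [Subgroup.mem_normalizer_iff]
      intro b
      constructor
      · rintro ⟨j, rfl⟩
        rw [(hc.zpow_right j).eq, mul_inv_cancel_right]
        exact ⟨j, rfl⟩
      · rintro ⟨j, hj⟩
        refine ⟨j, ?_⟩
        have h2 : y⁻¹ * (π v') ^ j * y = (π v') ^ j := by
          rw [mul_assoc, ← (hc.zpow_right j).eq, inv_mul_cancel_left]
        calc (π v') ^ j = y⁻¹ * (π v') ^ j * y := h2.symm
          _ = b := by
            rw [show (π v') ^ j = y * b * y⁻¹ from hj]; group
    have := card_dvd_of_le h1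
    rw [hNcard] at this
    rwa [show q - 1 = 2 * Nat.card D by omega]
  have haq : a' ∣ q - 1 := by
    rcases hval v' (fun h => hd1 (hπ1.2 h)) with h | h
    · exact h ▸ hdN
    · rw [h] at hdN
      have h1 : c' ∣ 1 := by
        have := Nat.dvd_sub hcq hdN
        rwa [show q - (q - 1) = 1 by omega] at this
      have := Nat.le_of_dvd one_pos h1
      omega
  obtain ⟨k, hk⟩ : ∃ k, q + 1 = 2 ^ k := by
    refine ⟨_, Nat.eq_prime_pow_of_unique_prime_dvd (by omega) fun {r} hr hrd => ?_⟩
    by_contra hr2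
    haveI : Fact r.Prime := ⟨hr⟩
    have hrG : r ∣ Nat.card (G ⧸ center G) := by
      have h1 : r ∣ 2 * Nat.card (G ⧸ center G) := by
        rw [hord]; exact Dvd.dvd.mul_right (Dvd.dvd.mul_left hrd _) _
      exact ((Nat.coprime_primes hr Nat.prime_two).2 hr2).dvd_of_dvd_mul_left h1
    obtain ⟨y, hy⟩ := exists_prime_orderOf_dvd_card' r hrG
    obtain ⟨y', rfl⟩ := hπs y
    have hyZ : y' ∉ center G := fun h => by
      rw [hπ1.2 h, orderOf_one] at hy
      exact hr.ne_one hy.symm
    have h1 : r ∣ Nat.card ((Cn y').map π) :=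
      hy ▸ Subgroup.orderOf_dvd_natCard _ (mem_map_of_mem π (self_mem_Cn y'))
    rcases hval y' hyZ with h | h <;> rw [h] at h1
    · have h2 := Nat.dvd_sub hrd (h1.trans haq)
      rw [show q + 1 - (q - 1) = 2 by omega] at h2
      exact hr2 ((Nat.prime_dvd_prime_iff_eq hr Nat.prime_two).1 h2)
    · have h2 := Nat.dvd_sub hrd (h1.trans hcq)
      rw [show q + 1 - q = 1 by omega] at h2
      exact hr.ne_one (Nat.dvd_one.1 h2)
  have hSyl : 2 ^ (Nat.card (G ⧸ center G)).factorization 2 ∣ 2 * a' := by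
    let Pb : Sylow 2 (G ⧸ center G) := S.mapSurjective (QuotientGroup.mk'_surjective (center G))
    rw [← Pb.card_eq_multiplicity]
    have h1 : Nat.card ((nbhd w).map π) = 2 * a' := by
      have e := TwoSizeNormal.card_eq_inf_mul_map (nbhd w) (center G)
      rw [inf_eq_right.2 (center_le_nbhd w), F.card_nbhd hwZ hw2 hgw hgn, ← hcard w] at e
      refine Nat.eq_of_mul_eq_mul_left hzpos ?_
      rw [← e, ← ha']; ring
    rw [← h1]
    exact card_dvd_of_le (by rw [Sylow.coe_mapSurjective]; exact Subgroup.map_mono hSn)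
  have h8 : k < 3 := by
    by_contra hk3
    push Not at hk3
    have h1 : 2 ^ 3 ∣ q + 1 := hk ▸ pow_dvd_pow 2 hk3
    have h2 : 2 ^ 3 ∣ Nat.card (G ⧸ center G) := by
      have h3 : 2 * 2 ^ 3 ∣ 2 * Nat.card (G ⧸ center G) := by
        rw [hord, mul_comm q (q + 1), mul_assoc, mul_comm 2]
        refine mul_dvd_mul h1 ?_
        exact Dvd.dvd.mul_left (by omega) q
      exact Nat.dvd_of_mul_dvd_mul_left two_pos h3
    have h4 : 2 ^ 3 ∣ 2 * (q - 1) :=
      ((pow_dvd_pow 2 ((Nat.prime_two.pow_dvd_iff_le_factorization Nat.card_pos.ne').1 h2)).trans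
        hSyl).trans (Nat.mul_dvd_mul_left 2 haq)
    omega
  have : 2 ^ k ≤ 4 := by
    calc 2 ^ k ≤ 2 ^ 2 := Nat.pow_le_pow_right two_pos (by omega)
      _ = 4 := rfl
  omega

end Cfsg.Agent.ConjRankTwo
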