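import Cfsg.Agent.Lib.ConjRankTwo.Setup
import Cfsg.Agent.Lib.FGS.SquarefreeClasses

/-!
Auxiliary facts on Sylow subgroups and centralisers for conjugate rank two.
-/

set_option autoImplicit false
set_option linter.unusedSectionVars false
set_option linter.style.haveILetI false

namespace Cfsg.Agent.ConjRankTwo

open Subgroup CfsgLib.FGS.TwoLargest
open scoped commutatorElement

variable {G : Type*} [Group G] [Finite G]

/-- A prime dividing no class size has its Sylow subgroups in the centre. -/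
theorem sylow_le_center {r : ℕ} [hr : Fact r.Prime] (h : ∀ u : G, u ∉ center G → ¬ r ∣ cls u)
    (R : Sylow r G) : (R : Subgroup G) ≤ center G := by
  have htop : centralizer ((R : Subgroup G) : Set G) = ⊤ := by
    refine CfsgLib.FGS.eq_top_of_forall_exists_conj fun g => ?_
    obtain ⟨Q, hQ⟩ := CfsgLib.FGS.CoverCount.exists_mem_centralizer_sylow (p := r) (x := g) (by
      show ¬ r ∣ cls g
      by_cases hg : g ∈ center G
      · rw [cls_eq_one.2 hg, Nat.dvd_one]; exact hr.out.ne_one
      · exact h g hg)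
    obtain ⟨c, hc⟩ := MulAction.exists_smul_eq G Q R
    refine ⟨c, mem_centralizer_iff.2 fun u hu => ?_⟩
    rw [← hc, Sylow.coe_subgroup_smul] at hu
    obtain ⟨w, hw, rfl⟩ := hu
    have h1 := (Commute.map (show Commute w g from mem_centralizer_iff.1 hQ w hw)
      (MulAut.conj c).toMonoidHom)
    simpa [MulAut.smul_def, mul_assoc] using h1.eq
  intro u hu
  exact mem_center_iff.2 fun g =>
    (mem_centralizer_iff.1 (htop ▸ mem_top g : g ∈ centralizer ((R : Subgroup G) : Set G)) u hu).symm

/-- A Sylow subgroup normalising `K` meets it in a Sylow subgroup of `K`. -/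
theorem card_inf_of_normalize {r : ℕ} [hr : Fact r.Prime] (R : Sylow r G) (K : Subgroup G)
    (h : (R : Subgroup G) ≤ Subgroup.normalizer (K : Set G)) :
    Nat.card ((R : Subgroup G) ⊓ K : Subgroup G) = r ^ (Nat.card K).factorization r := by
  set N := Subgroup.normalizer (K : Set G)
  have hKN : K ≤ N := le_normalizer
  haveI : (K.subgroupOf N).Normal := inferInstance
  have hd := SquarefreeClasses.relIndex_dvd (K.subgroupOf N) ((R : Subgroup G).subgroupOf N)
  rw [relIndex_subgroupOf hKN, ← show ((R.subtype h : Sylow r N) : Subgroup N) =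
    (R : Subgroup G).subgroupOf N from rfl] at hd
  have hnd : ¬ r ∣ (R : Subgroup G).relIndex K := fun hdd =>
    (R.subtype h).not_dvd_index (hdd.trans hd)
  have e : Nat.card ((R : Subgroup G) ⊓ K : Subgroup G) * (R : Subgroup G).relIndex K = Nat.card K := by
    rw [← inf_relIndex_right, ← relIndex_bot_left ((R : Subgroup G) ⊓ K), ← relIndex_bot_left K,
      relIndex_mul_relIndex ⊥ _ K bot_le inf_le_right]
  obtain ⟨j, hj⟩ := (R.2.to_le (inf_le_left (b := K))).exists_card_eq
  have hne : (R : Subgroup G).relIndex K ≠ 0 := index_ne_zero_of_finite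
  rw [hj] at e
  rw [← e, Nat.factorization_mul (pow_ne_zero _ hr.out.ne_zero) hne, Finsupp.add_apply,
    hr.out.factorization_pow, Finsupp.single_eq_same, Nat.factorization_eq_zero_of_not_dvd hnd,
    add_zero, hj]

/-- A Sylow subgroup contains an element acting on its centraliser with all commutators central. -/
theorem exists_near_central {r : ℕ} [hr : Fact r.Prime] (R : Sylow r G)
    (hR : ¬ (R : Subgroup G) ≤ center G) :
    ∃ w ∈ (R : Subgroup G), PEl r w ∧ w ∉ center G ∧ w ^ r ∈ center G ∧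
      (∀ g ∈ (R : Subgroup G), ∃ z ∈ center G, g * w * g⁻¹ = z * w ∧ z ^ r = 1) ∧
      (R : Subgroup G) ≤ Subgroup.normalizer (Cn w : Set G) := by
  obtain ⟨v, hv, hvZ⟩ := SetLike.not_le_iff_exists.1 hR
  obtain ⟨w, hw, hwZ, hwr, hcomm⟩ :=
    CfsgLib.FGS.EqualClasses.exists_second_centre R.2 ⟨v, hv, hvZ⟩
  obtain ⟨k, hk⟩ := IsPGroup.iff_orderOf.1 R.2 ⟨w, hw⟩
  have hwe : PEl r w := ⟨k, by rwa [Subgroup.orderOf_mk] at hk⟩
  have hz : ∀ g ∈ (R : Subgroup G), ∃ z ∈ center G, g * w * g⁻¹ = z * w ∧ z ^ r = 1 := by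
    intro g hg
    refine ⟨_, hcomm g hg, by rw [commutatorElement_def]; group, ?_⟩
    have h1 : (g * w * g⁻¹) ^ r = ⁅g, w⁆ ^ r * w ^ r := by
      rw [← ((show Commute w ⁅g, w⁆ from mem_center_iff.1 (hcomm g hg) w).symm).mul_pow]
      congr 1
      rw [commutatorElement_def]; group
    rw [conj_pow, mem_center_iff.1 hwr g, mul_inv_cancel_right] at h1
    exact mul_eq_right.1 h1.symm
  refine ⟨w, hw, hwe, hwZ, hwr, hz, fun g hg => ?_⟩
  rw [Subgroup.mem_normalizer_iff]
  intro x
  obtain ⟨z, hz, he, -⟩ := hz g hg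
  have hsame : Cn (g * w * g⁻¹) = Cn w := by
    ext t
    rw [he, mem_Cn, mem_Cn]
    have hzt : Commute t z := mem_center_iff.1 hz t
    exact ⟨fun h => by
      have := hzt.inv_right.mul_right h
      rwa [inv_mul_cancel_left] at this, fun h => hzt.mul_right h⟩
  constructor
  · intro h
    refine hsame.le (mem_Cn.2 ?_)
    simpa using (mem_Cn.1 h).map (MulAut.conj g).toMonoidHom
  · intro h
    have h2 := (mem_Cn.1 (hsame.ge h)).map (MulAut.conj g⁻¹).toMonoidHom
    exact mem_Cn.2 (by simpa [mul_assoc] using h2)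

end Cfsg.Agent.ConjRankTwo
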