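import Cfsg.Agent.Lib.ConjRankTwo.Nested
import Cfsg.Agent.Lib.ConjRankTwo.Tools
import Cfsg.Agent.Lib.Solvable.Averaging
import Cfsg.Agent.Lib.FGS.TwoSizeNormal
import Cfsg.Agent.S4167

/-!
Conjugate rank two with a proper inclusion of noncentral centralisers forces solvability: a Sylow
`r`-subgroup (`r ≠ s`) acts with kernel of index `r` fixed point freely on the `q`-parts.
-/

set_option autoImplicit false
set_option linter.unusedSectionVars false
set_option linter.style.haveILetI false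

namespace Cfsg.Agent.ConjRankTwo

open Subgroup CfsgLib.FGS.TwoLargest
open scoped commutatorElement

variable {G : Type*} [Group G] [Finite G] {n₁ n₂ m s : ℕ} (E : Nest G n₁ n₂ m)
  (hs : ∀ l : ℕ, l.Prime → l ∣ m → l = s)
include E hs

/-- The `q`-elements of the centraliser of `w` form a subgroup. -/
theorem Nest.exists_qPart {r q : ℕ} [hr : Fact r.Prime] [hq : Fact q.Prime] (hrs : r ≠ s) (hqs : q ≠ s)
    {w : G} (hw : PEl r w) (hwZ : w ∉ center G) :
    ∃ A : Subgroup G, (∀ a, a ∈ A ↔ a ∈ Cn w ∧ PEl q a) ∧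
      Nat.card A = q ^ (Nat.card (Cn w)).factorization q := by
  have hcomm : ∀ a b : G, a ∈ Cn w → PEl q a → b ∈ Cn w → Commute a b := fun a b ha hae hb =>
    (mem_Cn.1 (E.central_all hs hrs hqs hw hwZ ha hae hb)).symm
  let A : Subgroup G :=
    { carrier := {a | a ∈ Cn w ∧ PEl q a}
      one_mem' := ⟨one_mem _, 0, by simp⟩
      mul_mem' := by
        rintro a b ⟨ha, i, hi⟩ ⟨hb, j, hj⟩
        refine ⟨mul_mem ha hb, ?_⟩
        have h1 : (a * b) ^ (q ^ (i + j)) = 1 := by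
          rw [(hcomm a b ha ⟨i, hi⟩ hb).mul_pow, orderOf_dvd_iff_pow_eq_one.1 (hi ▸ pow_dvd_pow q (Nat.le_add_right i j)),
            orderOf_dvd_iff_pow_eq_one.1 (hj ▸ pow_dvd_pow q (Nat.le_add_left j i)), one_mul]
        obtain ⟨k, -, hk⟩ := (Nat.dvd_prime_pow hq.out).1 (orderOf_dvd_of_pow_eq_one h1)
        exact ⟨k, hk⟩
      inv_mem' := by
        rintro a ⟨ha, i, hi⟩
        exact ⟨inv_mem ha, i, by rw [orderOf_inv, hi]⟩ }
  refine ⟨A, fun a => Iff.rfl, ?_⟩
  have hA : IsPGroup q A := IsPGroup.iff_orderOf.2 fun a => by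
    obtain ⟨-, k, hk⟩ := a.2
    exact ⟨k, by rw [← Subgroup.orderOf_coe]; exact hk⟩
  obtain ⟨Q⟩ : Nonempty (Sylow q (Cn w)) := inferInstance
  have hle : (Q : Subgroup (Cn w)).map (Cn w).subtype ≤ A := by
    rintro _ ⟨y, hy, rfl⟩
    obtain ⟨k, hk⟩ := IsPGroup.iff_orderOf.1 Q.2 ⟨y, hy⟩
    exact ⟨y.2, k, by rw [← hk]; simp⟩
  have h1 := card_dvd_of_le hle
  rw [card_map_of_injective (subtype_injective _), Q.card_eq_multiplicity] at h1
  obtain ⟨j, hj⟩ := hA.exists_card_eq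
  have h2 : Nat.card A ∣ Nat.card (Cn w) := card_dvd_of_le fun a ha => ha.1
  rw [hj] at h1 h2 ⊢
  rw [hq.out.pow_dvd_iff_le_factorization Nat.card_pos.ne'] at h2
  rw [Nat.pow_dvd_pow_iff_le_right hq.out.one_lt] at h1
  rw [le_antisymm h2 h1]

variable {r : ℕ} [hr : Fact r.Prime] (hrs : r ≠ s) (R : Sylow r G)
  (hR : ¬ (R : Subgroup G) ≤ center G)

include hrs in
theorem Nest.not_le_Cn {w : G} (hw : w ∈ (R : Subgroup G)) (hwZ : w ∉ center G) :
    (R : Subgroup G) ≤ Cn w → (R : Subgroup G) ≤ center G := fun h => by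
  refine sylow_le_center (fun u hu hd => ?_) R
  have hw0 : (cls w).factorization r = 0 :=
    Nat.factorization_eq_zero_of_not_dvd fun hdd => R.not_dvd_index (hdd.trans (index_dvd_of_le h))
  have h1 := factorization_cls_add u r
  have h2 := factorization_cls_add w r
  have h3 := E.fact_eq (E.not_dvd hs hr.out hrs) hu hwZ
  have h4 := hr.out.factorization_pos_of_dvd (cls_ne_zero u) hd
  omega

include hrs in
/-- An element of `R` fixing a noncentral `q`-element of `C(w)` centralises `w`. -/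
theorem Nest.mem_of_fix {q : ℕ} [hq : Fact q.Prime] (hqs : q ≠ s) {w : G} (hw : PEl r w)
    (hwZ : w ∉ center G) (hN : (R : Subgroup G) ≤ Subgroup.normalizer (Cn w : Set G)) {g a : G}
    (hg : g ∈ (R : Subgroup G)) (ha : a ∈ Cn w) (hae : PEl q a) (haZ : a ∉ center G)
    (hga : Commute g a) : g ∈ Cn w := by
  have hle : Cn w ≤ Cn a := E.central_all hs hrs hqs hw hwZ ha hae
  set T := (R : Subgroup G) ⊓ Cn w
  have hH : IsPGroup r (T ⊔ zpowers g : Subgroup G) :=
    R.2.to_le (sup_le inf_le_left (zpowers_le.2 hg))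
  obtain ⟨j, hj⟩ := hH.exists_card_eq
  have h1 := card_dvd_of_le (sup_le (inf_le_right.trans hle) (zpowers_le.2 (mem_Cn.2 hga)) :
    T ⊔ zpowers g ≤ Cn a)
  rw [hj, hr.out.pow_dvd_iff_le_factorization Nat.card_pos.ne',
    E.fact_eq (E.not_dvd hs hr.out hrs) haZ hwZ] at h1
  have heq : T = T ⊔ zpowers g := Subgroup.eq_of_le_of_card_ge le_sup_left (by
    rw [hj, card_inf_of_normalize R (Cn w) hN]; exact Nat.pow_le_pow_right hr.out.pos h1)
  exact (heq ▸ (le_sup_right : zpowers g ≤ T ⊔ zpowers g) (mem_zpowers g) : g ∈ T).2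

include hrs hR in
/-- The fixed point free action: kernel of index `r`, and `r ∣ |Aut V|`. -/
theorem Nest.action {q : ℕ} [hq : Fact q.Prime] (hqs : q ≠ s) (hqr : q ≠ r) {v : G} (hv : PEl q v)
    (hvZ : v ∉ center G) :
    ∃ (w : G) (A : Subgroup G), w ∈ (R : Subgroup G) ∧ PEl r w ∧ w ∉ center G ∧
      (∀ a, a ∈ A ↔ a ∈ Cn w ∧ PEl q a) ∧
      Nat.card A = q ^ (Nat.card (Cn w)).factorization q ∧
      Nat.card ((R : Subgroup G) ⊓ Cn w : Subgroup G) = r ^ (Nat.card (Cn w)).factorization r ∧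
      Nat.card (R : Subgroup G) = r * Nat.card ((R : Subgroup G) ⊓ Cn w : Subgroup G) ∧
      1 < Nat.card (A.map (QuotientGroup.mk' (center G))) ∧
      r ∣ Nat.card (MulAut (A.map (QuotientGroup.mk' (center G)))) := by
  obtain ⟨w, hwR, hw, hwZ, hwr, hconj, hN⟩ := exists_near_central R hR
  obtain ⟨A, hA, hAc⟩ := E.exists_qPart (q := q) hs hrs hqs hw hwZ
  refine ⟨w, A, hwR, hw, hwZ, hA, hAc, card_inf_of_normalize R _ hN, ?_⟩
  obtain ⟨y, hy, hye, hyZ⟩ := E.exists_mem (E.not_dvd hs hq.out hqs) hv hvZ hwZ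
  set π := QuotientGroup.mk' (center G) with hπ
  set V := A.map π with hV
  have hV1 : 1 < Nat.card V := by
    rw [Finite.one_lt_card_iff_nontrivial, Subgroup.nontrivial_iff_ne_bot]
    intro h
    have : π y ∈ V := mem_map_of_mem π ((hA y).2 ⟨hy, hye⟩)
    rw [h, mem_bot] at this
    exact hyZ ((QuotientGroup.eq_one_iff y).1 this)
  haveI : Nontrivial V := Finite.one_lt_card_iff_nontrivial.1 hV1
  have hAn : ∀ g ∈ (R : Subgroup G), ∀ a ∈ A, g * a * g⁻¹ ∈ A := fun g hg a ha => by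
    obtain ⟨h1, k, hk⟩ := (hA a).1 ha
    refine (hA _).2 ⟨(Subgroup.mem_normalizer_iff.1 (hN hg) a).1 h1, k, ?_⟩
    rw [← hk]; exact MulEquiv.orderOf_eq (MulAut.conj g) a
  have hVn : ∀ g ∈ (R : Subgroup G), π g ∈ Subgroup.normalizer (V : Set (G ⧸ center G)) := fun g hg =>
    Subgroup.mem_normalizer_iff.2 fun x => by
      constructor
      · rintro ⟨a, ha, rfl⟩
        exact ⟨g * a * g⁻¹, hAn g hg a ha, by simp⟩
      · rintro ⟨a, ha, hx⟩
        refine ⟨g⁻¹ * a * g⁻¹⁻¹, hAn g⁻¹ (inv_mem hg) a ha, ?_⟩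
        simp only [map_mul, map_inv, hx]
        group
  let φ : (R : Subgroup G) →* MulAut V :=
    V.normalizerMonoidHom.comp ((π.comp (R : Subgroup G).subtype).codRestrict _ fun g => hVn g g.2)
  have hval : ∀ (g : (R : Subgroup G)) (x : V), ((φ g x : V) : G ⧸ center G) = π g * x * (π g)⁻¹ :=
    fun _ _ => rfl
  have hcoe : ∀ g : (R : Subgroup G), ∀ x : V, φ g x = x → x ≠ 1 → (g : G) ∈ Cn w := by
    intro g x hx hx1
    obtain ⟨a, ha, hax⟩ := x.2
    obtain ⟨haw, hae⟩ := (hA a).1 ha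
    have haZ : a ∉ center G := fun h => hx1 (Subtype.ext
      (hax.symm.trans ((QuotientGroup.eq_one_iff a).2 h)))
    refine E.mem_of_fix hs hrs R hqs hw hwZ hN g.2 haw hae haZ ?_
    have h1 := congrArg Subtype.val hx
    rw [hval, ← hax, ← map_inv, ← map_mul, ← map_mul] at h1
    have hz : a⁻¹ * ((g : G) * a * (g : G)⁻¹) ∈ center G := (QuotientGroup.eq).1 h1.symm
    set z := a⁻¹ * ((g : G) * a * (g : G)⁻¹) with hzdef
    have hzA : z ∈ A := mul_mem (inv_mem ha) (hAn g g.2 a ha)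
    obtain ⟨-, j, hj⟩ := (hA z).1 hzA
    obtain ⟨k, hk⟩ := IsPGroup.iff_orderOf.1 R.2 g
    rw [← Subgroup.orderOf_coe] at hk
    have hp : ∀ n : ℕ, (g : G) ^ n * a * ((g : G) ^ n)⁻¹ = a * z ^ n := by
      intro n
      induction n with
      | zero => simp
      | succ n ih =>
        rw [pow_succ', pow_succ z n]
        have e : (g : G) * a * (g : G)⁻¹ = a * z := by rw [hzdef]; group
        calc _ = (g : G) * ((g : G) ^ n * a * ((g : G) ^ n)⁻¹) * (g : G)⁻¹ := by group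
          _ = (g : G) * a * (z ^ n * (g : G)⁻¹) := by rw [ih]; group
          _ = (g : G) * a * ((g : G)⁻¹ * z ^ n) := by
            rw [(mem_center_iff.1 (pow_mem hz n) (g : G)⁻¹)]
          _ = a * (z ^ n * z) := by
            rw [← mul_assoc, e, mul_assoc, ← (Commute.pow_self z n).eq]
    have hzr := hp (r ^ k)
    rw [show (g : G) ^ r ^ k = 1 from hk ▸ pow_orderOf_eq_one _, one_mul, inv_one, mul_one] at hzr
    have hd : orderOf z ∣ r ^ k := orderOf_dvd_of_pow_eq_one (mul_eq_left.1 hzr.symm)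
    have hz1 : orderOf z = 1 := Nat.eq_one_of_dvd_coprimes
      (((Nat.coprime_primes hq.out hr.out).2 hqr).pow j k) (dvd_of_eq hj) hd
    rw [orderOf_eq_one_iff, hzdef, inv_mul_eq_one] at hz1
    exact (mul_inv_eq_iff_eq_mul.1 hz1.symm)
  have hker : φ.ker = ((R : Subgroup G) ⊓ Cn w).subgroupOf (R : Subgroup G) := by
    ext g
    constructor <;> intro hg
    · refine mem_subgroupOf.2 ⟨g.2, ?_⟩
      obtain ⟨x, hx⟩ := exists_ne (1 : V)
      exact hcoe g x (by rw [MonoidHom.mem_ker.1 hg]; rfl) hx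
    · rw [mem_subgroupOf] at hg
      refine MonoidHom.mem_ker.2 (MulEquiv.ext fun x => Subtype.ext ?_)
      obtain ⟨a, ha, hax⟩ := x.2
      obtain ⟨haw, hae⟩ := (hA a).1 ha
      have hc : Commute (g : G) a := mem_Cn.1 (E.central_all hs hrs hqs hw hwZ haw hae hg.2)
      show ((φ g x : V) : G ⧸ center G) = x
      rw [hval, ← hax, ← map_inv, ← map_mul, ← map_mul, hc.eq, mul_inv_cancel_right]
  have hcom : ∀ g h : (R : Subgroup G), φ (g * h) = φ (h * g) := by
    intro g h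
    rw [← mul_inv_eq_one, ← map_inv, ← map_mul, ← MonoidHom.mem_ker, hker, mem_subgroupOf]
    refine ⟨Subtype.coe_prop _, mem_Cn.2 ?_⟩
    obtain ⟨z, hz, ez, -⟩ := hconj g g.2
    obtain ⟨t, ht, et, -⟩ := hconj h h.2
    have e1 : ((g : G) * h) * w * ((g : G) * h)⁻¹ = t * z * w := by
      calc _ = (g : G) * ((h : G) * w * (h : G)⁻¹) * (g : G)⁻¹ := by group
        _ = (g : G) * t * w * (g : G)⁻¹ := by rw [et]; group
        _ = t * ((g : G) * w * (g : G)⁻¹) := by rw [mem_center_iff.1 ht (g : G)]; group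
        _ = t * z * w := by rw [ez]; group
    have e2 : ((h : G) * g) * w * ((h : G) * g)⁻¹ = t * z * w := by
      calc _ = (h : G) * ((g : G) * w * (g : G)⁻¹) * (h : G)⁻¹ := by group
        _ = (h : G) * z * w * (h : G)⁻¹ := by rw [ez]; group
        _ = z * ((h : G) * w * (h : G)⁻¹) := by rw [mem_center_iff.1 hz (h : G)]; group
        _ = t * z * w := by rw [et, ← mul_assoc, mem_center_iff.1 ht z]
    have hu : Commute ((g : G) * h * ((h : G) * g)⁻¹) (t * z * w) := by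
      rw [Commute, SemiconjBy, ← mul_inv_eq_iff_eq_mul]
      calc _ = (g : G) * h * ((h : G) * g)⁻¹ * ((h : G) * g * w * ((h : G) * g)⁻¹) *
            ((g : G) * h * ((h : G) * g)⁻¹)⁻¹ := by rw [e2]
        _ = (g : G) * h * w * ((g : G) * h)⁻¹ := by group
        _ = t * z * w := e1
    show Commute ((g : G) * h * ((h : G) * g)⁻¹) w
    have hc : Commute ((g : G) * h * ((h : G) * g)⁻¹) (t * z)⁻¹ :=
      mem_center_iff.1 (inv_mem (mul_mem ht hz)) _
    simpa [mul_assoc] using hc.mul_right hu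
  have hpow : ∀ g : (R : Subgroup G), φ g ^ r = 1 := by
    intro g
    rw [← map_pow, ← MonoidHom.mem_ker, hker, mem_subgroupOf]
    refine ⟨Subtype.coe_prop _, mem_Cn.2 ?_⟩
    obtain ⟨z, hz, ez, hzr⟩ := hconj g g.2
    have h1 : ∀ n : ℕ, (g : G) ^ n * w * ((g : G) ^ n)⁻¹ = z ^ n * w := by
      intro n
      induction n with
      | zero => simp
      | succ n ih =>
        calc _ = (g : G) * ((g : G) ^ n * w * ((g : G) ^ n)⁻¹) * (g : G)⁻¹ := by
              rw [pow_succ']; group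
          _ = (g : G) * z ^ n * w * (g : G)⁻¹ := by rw [ih, ← mul_assoc]
          _ = z ^ n * ((g : G) * w * (g : G)⁻¹) := by
              rw [mem_center_iff.1 (pow_mem hz n) (g : G)]; group
          _ = z ^ (n + 1) * w := by rw [ez, ← mul_assoc, ← pow_succ]
    have h2 := h1 r
    rw [hzr, one_mul, mul_inv_eq_iff_eq_mul] at h2
    exact h2
  haveI : IsCyclic φ.range := by
    letI : CommGroup V := { (inferInstance : Group V) with
      mul_comm := by
        rintro ⟨_, a, ha, rfl⟩ ⟨_, b, hb, rfl⟩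
        refine Subtype.ext ?_
        show π a * π b = π b * π a
        obtain ⟨haw, hae⟩ := (hA a).1 ha
        have hc : Commute b a := mem_Cn.1 (E.central_all hs hrs hqs hw hwZ haw hae ((hA b).1 hb).1)
        rw [← map_mul, ← map_mul, hc.eq] }
    refine CfsgLib.Solvable.isCyclic_of_fpf_comm (φ := φ.range.subtype) ?_ ?_
    · rintro ⟨e, g, rfl⟩ he x hx
      by_contra hx1
      refine he (Subtype.ext ?_)
      show φ g = 1
      rw [← MonoidHom.mem_ker, hker, mem_subgroupOf]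
      exact ⟨g.2, hcoe g x hx hx1⟩
    · rintro ⟨_, g, rfl⟩ ⟨_, h, rfl⟩
      refine Subtype.ext ?_
      show φ g * φ h = φ h * φ g
      rw [← map_mul, ← map_mul, hcom]
  obtain ⟨c, hc⟩ := IsCyclic.exists_ofOrder_eq_natCard (α := φ.range)
  have hdvd : Nat.card φ.range ∣ r := by
    rw [← hc]
    refine orderOf_dvd_of_pow_eq_one ?_
    obtain ⟨g, hg⟩ := c.2
    exact Subtype.ext (by rw [SubmonoidClass.coe_pow, ← hg, hpow g]; rfl)
  have hne : Nat.card φ.range ≠ 1 := by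
    intro h1
    refine hR (E.not_le_Cn hs hrs R hwR hwZ fun g hg => ?_)
    have : φ ⟨g, hg⟩ = 1 := by
      have := (Subgroup.card_eq_one.1 h1).le (⟨⟨g, hg⟩, rfl⟩ : φ ⟨g, hg⟩ ∈ φ.range)
      exact mem_bot.1 this
    rw [← MonoidHom.mem_ker, hker, mem_subgroupOf] at this
    exact this.2
  have hcard : Nat.card φ.range = r := (hr.out.eq_one_or_self_of_dvd _ hdvd).resolve_left hne
  refine ⟨?_, hV1, hcard ▸ Subgroup.card_subgroup_dvd_card φ.range⟩
  rw [← φ.ker.card_mul_index, Subgroup.index_ker, hcard, hker,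
    Nat.card_congr (subgroupOfEquivOfLe (inf_le_left : (R : Subgroup G) ⊓ Cn w ≤ R)).toEquiv, mul_comm]

omit R hR in
include hrs in
/-- The `r`-part of every noncentral class size is `r`. -/
theorem Nest.fact_cls {v : G} (hv : PEl r v) (hvZ : v ∉ center G) {u : G} (hu : u ∉ center G) :
    (Nat.card (Cn u)).factorization r + 1 = (Nat.card G).factorization r := by
  obtain ⟨k, hk⟩ := hv
  obtain ⟨R, hle⟩ := (PEl.isPGroup ⟨k, hk⟩ : IsPGroup r (zpowers v)).exists_le_sylow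
  have hR : ¬ (R : Subgroup G) ≤ center G := fun h => hvZ (h (hle (mem_zpowers v)))
  obtain ⟨q, hq, hqr, hqs, v', hv', hv'Z⟩ := exists_third E.hyp.ns hr.out (E.prime_s hs)
  haveI : Fact q.Prime := ⟨hq⟩
  obtain ⟨w, A, hwR, hw, hwZ, -, -, hT, hcard, -, -⟩ := E.action hs hrs R hR hqs hqr hv' hv'Z
  rw [R.card_eq_multiplicity, hT, ← pow_succ'] at hcard
  rw [E.fact_eq (E.not_dvd hs hr.out hrs) hu hwZ]
  exact (Nat.pow_right_injective hr.out.two_le hcard).symm

omit R hR hrs hr in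
/-- The `2`-part of the class sizes contradicts `s ≠ 2`. -/
theorem Nest.s_eq_two : s = 2 := by
  by_contra hs2
  haveI : Fact (Nat.Prime 2) := ⟨Nat.prime_two⟩
  refine E.hyp.ns (Cfsg.Agent.S4167.result fun x h4 => ?_)
  by_cases hx : x ∈ center G
  · replace h4 : 4 ∣ cls x := h4
    rw [cls_eq_one.2 hx] at h4
    omega
  by_cases hex : ∃ v : G, PEl 2 v ∧ v ∉ center G
  · obtain ⟨v, hv, hvZ⟩ := hex
    have h1 := E.fact_cls hs (Ne.symm hs2) hv hvZ hx
    have h2 := factorization_cls_add x 2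
    have h3 : 2 ≤ (cls x).factorization 2 :=
      (Nat.prime_two.pow_dvd_iff_le_factorization (cls_ne_zero x)).1 h4
    omega
  · push Not at hex
    obtain ⟨S⟩ : Nonempty (Sylow 2 G) := inferInstance
    have hS : (S : Subgroup G) ≤ Cn x := fun g hg => center_le_Cn x (hex g (by
      obtain ⟨k, hk⟩ := IsPGroup.iff_orderOf.1 S.2 ⟨g, hg⟩
      exact ⟨k, by rwa [Subgroup.orderOf_mk] at hk⟩))
    exact S.not_dvd_index ((dvd_trans (by norm_num) h4).trans (index_dvd_of_le hS))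

omit hs R hR hrs hr in
/-- Some odd prime power element has the size `n`. -/
theorem Nest.exists_odd (hs : ∀ l : ℕ, l.Prime → l ∣ m → l = 2) {n : ℕ} (hn : n = n₁ ∨ n = n₂) :
    ∃ (t : ℕ) (a : G), t.Prime ∧ t ≠ 2 ∧ PEl t a ∧ a ∉ center G ∧ cls a = n := by
  obtain ⟨x, hxc, hxZ, hx⟩ := E.hyp.both Nat.prime_two hn
  obtain ⟨t, ht, htd, a, ha, hae, haZ⟩ := exists_part hxZ
  haveI : Fact t.Prime := ⟨ht⟩
  have htwo : ∀ l : ℕ, l.Prime → l ∣ orderOf x → l ≠ 2 := fun l _ hld e =>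
    Nat.prime_two.coprime_iff_not_dvd.1 hxc.symm (e ▸ hld)
  refine ⟨t, a, ht, htwo t ht htd, hae, haZ, ?_⟩
  have hax : Cn a ≤ Cn x := by
    by_contra hcon
    obtain ⟨l, hl, hld, b, hb, hbe, hbn⟩ := exists_part_not_le hcon
    haveI : Fact l.Prime := ⟨hl⟩
    exact hbn (E.central_all hs (htwo t ht htd) (htwo l hl hld) hae haZ
      (zpowers_le.2 (le_Cn_of_mem_zpowers ha (self_mem_Cn x)) hb) hbe)
  rw [← hx]
  exact congrArg Subgroup.index (le_antisymm hax (le_Cn_of_mem_zpowers ha))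

omit hs R hR hrs hr in
/-- For `s = 2` a Sylow subgroup for an odd prime is small modulo the centre. -/
theorem Nest.sylow_card_le (hs : ∀ l : ℕ, l.Prime → l ∣ m → l = 2) {r : ℕ} [hr : Fact r.Prime]
    (hr2 : r ≠ 2) {v : G} (hv : PEl r v) (hvZ : v ∉ center G) (R : Sylow r G) :
    Nat.card (R : Subgroup G) ≤ r ^ 2 * Nat.card ((R : Subgroup G) ⊓ center G : Subgroup G) := by
  have hR : ¬ (R : Subgroup G) ≤ center G := by
    intro h
    obtain ⟨k, hk⟩ := hv
    obtain ⟨R', hle⟩ := (PEl.isPGroup ⟨k, hk⟩ : IsPGroup r (zpowers v)).exists_le_sylow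
    obtain ⟨c, hc⟩ := MulAction.exists_smul_eq G R R'
    have hv' : v ∈ ((c • R : Sylow r G) : Subgroup G) := hc ▸ hle (mem_zpowers v)
    rw [Sylow.coe_subgroup_smul] at hv'
    obtain ⟨u, hu, huv⟩ := hv'
    refine hvZ (huv ▸ ?_)
    simpa [MulAut.smul_def, mem_center_iff.1 (h hu) c] using h hu
  obtain ⟨w, hwR, hw, hwZ, -, -, hN⟩ := exists_near_central R hR
  have hrm := E.not_dvd hs hr.out hr2
  obtain ⟨n, hn, hne⟩ : ∃ n, (n = n₁ ∨ n = n₂) ∧ n ≠ cls w := by
    rcases E.hyp.sizes w hwZ with h | h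
    · exact ⟨n₁, Or.inl rfl, fun e => E.hyp.lt.ne' (e.trans h)⟩
    · exact ⟨n₂, Or.inr rfl, fun e => E.hyp.lt.ne (e.trans h)⟩
  obtain ⟨t, a, ht, ht2, hae, haZ, ha⟩ := E.exists_odd hs hn
  haveI : Fact t.Prime := ⟨ht⟩
  obtain ⟨Q⟩ : Nonempty (Sylow r (Cn a)) := inferInstance
  set K₀ := (Q : Subgroup (Cn a)).map (Cn a).subtype with hK₀
  obtain ⟨R', hR'⟩ := (Q.2.map (Cn a).subtype : IsPGroup r K₀).exists_le_sylow
  obtain ⟨c, hc⟩ := MulAction.exists_smul_eq G R' R
  set K := K₀.map (MulAut.conj c).toMonoidHom with hK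
  set a' := c * a * c⁻¹ with ha'
  have hKR : K ≤ R := by
    rw [← hc, Sylow.coe_subgroup_smul]
    exact Subgroup.map_mono hR'
  have hKa : K ≤ Cn a' := by
    rintro _ ⟨x, ⟨y, -, rfl⟩, rfl⟩
    exact mem_Cn.2 ((mem_Cn.1 y.2).map (MulAut.conj c).toMonoidHom)
  have ha'Z : a' ∉ center G := fun h => haZ (by
    have h1 := mem_center_iff.1 h c⁻¹
    have e : a = a' := by
      calc a = c⁻¹ * a' * c := by rw [ha']; group
        _ = a' := by rw [h1]; group
    rwa [e])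
  have ha'e : PEl t a' := by
    obtain ⟨k, hk⟩ := hae
    exact ⟨k, hk ▸ MulEquiv.orderOf_eq (MulAut.conj c) a⟩
  have ha'n : cls a' = n := ha ▸ (cls_eq_of_isConj (isConj_iff.2 ⟨c, rfl⟩)).symm
  set T := (R : Subgroup G) ⊓ Cn w with hT
  have hTc : Nat.card T = r ^ (Nat.card (Cn w)).factorization r := card_inf_of_normalize R _ hN
  have hKc : Nat.card K = r ^ (Nat.card (Cn w)).factorization r := by
    rw [hK, card_map_of_injective (MulEquiv.injective _), hK₀,
      card_map_of_injective (subtype_injective _), Q.card_eq_multiplicity, E.fact_eq hrm haZ hwZ]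
  have hel : ∀ x ∈ (R : Subgroup G), PEl r x := fun x hx => by
    obtain ⟨k, hk⟩ := IsPGroup.iff_orderOf.1 R.2 ⟨x, hx⟩
    exact ⟨k, by rwa [Subgroup.orderOf_mk] at hk⟩
  have hdis : T ⊓ K ≤ (R : Subgroup G) ⊓ center G := by
    intro x hx
    refine ⟨hx.1.1, by_contra fun hxZ => hne ?_⟩
    have e1 := E.comp_eq hs hr2 hr2 hw hwZ hx.1.2 (hel x hx.1.1) hxZ
    have e2 := E.comp_eq hs ht2 hr2 ha'e ha'Z (hKa hx.2) (hel x hx.1.1) hxZ
    rw [← ha'n]
    exact congrArg Subgroup.index (e2.trans e1.symm)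
  have h1 := Nat.le_of_dvd Nat.card_pos (card_dvd_of_le hdis)
  have hRc : Nat.card (R : Subgroup G) = r * Nat.card T := by
    rw [R.card_eq_multiplicity, hTc, ← E.fact_cls hs hr2 hv hvZ hwZ, pow_succ']
  have h2 := TwoSizeNormal.card_le_inf_mul (A := T) (B := K) (D := (R : Subgroup G)) inf_le_left hKR
    (n := r) (by rw [hRc, hTc, hKc])
  rw [hRc, pow_two, mul_assoc]
  exact Nat.mul_le_mul_left _ (h2.trans (Nat.mul_le_mul_left _ h1))

omit hs R hR hrs hr in
/-- For `s = 2` two odd primes would each divide the other minus one. -/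
theorem Nest.dvd_sub_one (hs : ∀ l : ℕ, l.Prime → l ∣ m → l = 2) {r q : ℕ} [hr : Fact r.Prime]
    [hq : Fact q.Prime] (hr2 : r ≠ 2) (hq2 : q ≠ 2) (hqr : q ≠ r) {u v : G} (hu : PEl r u)
    (huZ : u ∉ center G) (hv : PEl q v) (hvZ : v ∉ center G) : r ∣ q - 1 := by
  obtain ⟨R, hle⟩ := hu.isPGroup.exists_le_sylow
  have hR : ¬ (R : Subgroup G) ≤ center G := fun h => huZ (h (hle (mem_zpowers u)))
  obtain ⟨w, A, -, hw, hwZ, hA, hAc, -, -, hV1, hdvd⟩ := E.action hs hr2 R hR hq2 hqr hv hvZ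
  obtain ⟨Q⟩ : Nonempty (Sylow q G) := inferInstance
  have hQ := E.sylow_card_le hs hq2 hv hvZ Q
  have h1 : ((Q : Subgroup G) ⊓ center G) ≤ A ⊓ center G := fun x hx => by
    obtain ⟨k, hk⟩ := IsPGroup.iff_orderOf.1 Q.2 ⟨x, hx.1⟩
    exact ⟨(hA x).2 ⟨center_le_Cn w hx.2, k, by rwa [Subgroup.orderOf_mk] at hk⟩, hx.2⟩
  have h2 := Nat.le_of_dvd Nat.card_pos (card_dvd_of_le h1)
  have h3 := TwoSizeNormal.card_eq_inf_mul_map A (center G)
  set V := A.map (QuotientGroup.mk' (center G))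
  have h4 : Nat.card A * q ≤ q ^ 2 * Nat.card (A ⊓ center G : Subgroup G) := by
    refine le_trans (le_of_eq ?_) (hQ.trans (Nat.mul_le_mul_left _ h2))
    rw [hAc, Q.card_eq_multiplicity, ← E.fact_cls hs hq2 hv hvZ hwZ, pow_succ]
  have h5 : Nat.card V ≤ q := by
    refine Nat.le_of_mul_le_mul_left ?_
      (Nat.mul_pos hq.out.pos (Nat.card_pos (α := (A ⊓ center G : Subgroup G))))
    calc q * Nat.card (A ⊓ center G : Subgroup G) * Nat.card V = Nat.card A * q := by rw [h3]; ring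
      _ ≤ _ := h4.trans (le_of_eq (by ring))
  have h6 : Nat.card V ∣ q ^ (Nat.card (Cn w)).factorization q := hAc ▸ Dvd.intro_left _ h3.symm
  obtain ⟨j, -, hj⟩ := (Nat.dvd_prime_pow hq.out).1 h6
  have hj1 : j = 1 := by
    rcases j with _ | _ | j
    · simp [hj] at hV1
    · rfl
    · exfalso
      have h7 : q ^ 2 ≤ q ^ (j + 2) := Nat.pow_le_pow_right hq.out.pos (by omega)
      nlinarith [hq.out.two_le]
  rw [hj1, pow_one] at hj
  haveI : IsCyclic V := isCyclic_of_prime_card hj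
  rwa [IsCyclic.card_mulAut, hj, Nat.totient_prime hq.out] at hdvd

omit hs R hR hrs hr in
/-- The nested case is impossible. -/
theorem Nest.false_of_lt : False := by
  obtain ⟨s, -, hs⟩ := E.exists_prime
  obtain rfl := E.s_eq_two hs
  obtain ⟨r, hr, hr2, -, u, hu, huZ⟩ := exists_third E.hyp.ns Nat.prime_two Nat.prime_two
  obtain ⟨q, hq, hq2, hqr, v, hv, hvZ⟩ := exists_third E.hyp.ns Nat.prime_two hr
  haveI : Fact r.Prime := ⟨hr⟩
  haveI : Fact q.Prime := ⟨hq⟩
  have h1 := Nat.le_of_dvd (by have := hq.two_le; omega) (E.dvd_sub_one hs hr2 hq2 hqr hu huZ hv hvZ)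
  have h2 := Nat.le_of_dvd (by have := hr.two_le; omega)
    (E.dvd_sub_one hs hq2 hr2 hqr.symm hv hvZ hu huZ)
  have := hr.two_le
  omega

end Cfsg.Agent.ConjRankTwo
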