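import Cfsg.Agent.Lib.ConjRankTwo.FlatMain
import Cfsg.Agent.Lib.ConjRankTwo.NestedFinish

/-!
A finite group with exactly two nontrivial class sizes is solvable (Itô).
-/

set_option autoImplicit false

namespace Cfsg.Agent.ConjRankTwo

open Subgroup CfsgLib.FGS.TwoLargest

theorem isSolvable {G : Type*} [Group G] [Finite G] {n₁ n₂ : ℕ} (hlt : n₂ < n₁)
    (h : ∀ x : G, (centralizer ({x} : Set G)).index = 1 ∨ (centralizer ({x} : Set G)).index = n₂ ∨
      (centralizer ({x} : Set G)).index = n₁) : Group.IsSolvable G := by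
  by_contra hns
  have D : Hyp G n₁ n₂ := ⟨hlt, fun x hx => (h x).resolve_left fun e => hx (cls_eq_one.1 e), hns⟩
  by_cases hF : ∀ u v : G, u ∉ center G → v ∉ center G → Cn u ≤ Cn v → Cn u = Cn v
  · exact Flat.false_of_flat ⟨D, hF⟩
  · push Not at hF
    obtain ⟨u, v, hu, hv, hle, hne⟩ := hF
    exact (D.nest hu hv (lt_of_le_of_ne hle hne)).false_of_lt

end Cfsg.Agent.ConjRankTwo
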