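import Cfsg.Agent.Lib.ConjRankTwo.Setup

/-!
Conjugate rank two with a proper inclusion of noncentral centralisers: the quotient `n₁ / n₂` is a
power of one prime `s`, and for the other primes the centralisers are abelian there.
-/

set_option autoImplicit false
set_option linter.unusedSectionVars false
set_option linter.style.haveILetI false

namespace Cfsg.Agent.ConjRankTwo

open Subgroup CfsgLib.FGS.TwoLargest

variable {G : Type*} [Group G] [Finite G] {n₁ n₂ m : ℕ}

/-- The hypotheses in the nested case. -/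
structure Nest (G : Type*) [Group G] (n₁ n₂ m : ℕ) : Prop where
  hyp : Hyp G n₁ n₂
  mul : m * n₂ = n₁
  lt : ∃ u v : G, u ∉ center G ∧ v ∉ center G ∧ Cn u < Cn v

theorem Hyp.nest (D : Hyp G n₁ n₂) {u v : G} (hu : u ∉ center G) (hv : v ∉ center G)
    (h : Cn u < Cn v) : Nest G n₁ n₂ (n₁ / n₂) := by
  have hne : cls v ≠ cls u := fun e => h.ne (centralizer_eq_of_cls h.le e.symm)
  have hd : cls v ∣ cls u := cls_dvd h.le
  have hle := Nat.le_of_dvd (Nat.pos_of_ne_zero (cls_ne_zero u)) hd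
  have hv2 : cls v = n₂ := (D.sizes v hv).resolve_right fun e => by have := D.le_n1 hu; omega
  have hu1 : cls u = n₁ := (D.sizes u hu).resolve_left fun e => hne (hv2.trans e.symm)
  refine ⟨D, Nat.div_mul_cancel ?_, u, v, hu, hv, h⟩
  rw [← hu1, ← hv2]
  exact hd

variable (E : Nest G n₁ n₂ m)
include E

theorem Nest.m_ne_one : m ≠ 1 := fun h => by
  have := E.hyp.lt
  rw [← E.mul, h, one_mul] at this
  exact lt_irrefl _ this

theorem Nest.n2_pos : 0 < n₂ := by
  obtain ⟨u, -, hu, -, -⟩ := E.lt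
  rcases E.hyp.sizes u hu with h | h
  · exact h ▸ Nat.pos_of_ne_zero (cls_ne_zero u)
  · refine Nat.pos_of_ne_zero fun e => cls_ne_zero u ?_
    rw [h, ← E.mul, e, mul_zero]

theorem Nest.m_ne_zero : m ≠ 0 := fun e => by
  have := E.hyp.lt
  rw [← E.mul, e, zero_mul] at this
  exact absurd this (Nat.not_lt_zero _)

/-- The class size inside `M = C(x)` of an element of order prime to `x`. -/
theorem Nest.sub_cls {x : G} (hxZ : x ∉ center G) (hx : cls x = n₂) {y : G} (hy : y ∈ Cn x)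
    (hc : (orderOf y).Coprime (orderOf x)) :
    (centralizer ({(⟨y, hy⟩ : Cn x)} : Set (Cn x))).index = 1 ∨
      (¬ Cn x ≤ Cn y ∧ (centralizer ({(⟨y, hy⟩ : Cn x)} : Set (Cn x))).index = m) := by
  have e : centralizer ({(⟨y, hy⟩ : Cn x)} : Set (Cn x)) = (Cn y).subgroupOf (Cn x) := by
    ext g
    rw [mem_subgroupOf, mem_centralizer_singleton_iff, mem_centralizer_singleton_iff, Subtype.ext_iff]
    rfl
  rw [e]
  by_cases hle : Cn x ≤ Cn y
  · exact Or.inl (index_eq_one.2 (subgroupOf_eq_top.2 hle))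
  refine Or.inr ⟨hle, ?_⟩
  have hxy : Cn (x * y) = Cn x ⊓ Cn y := Cn_mul (mem_Cn.1 hy).symm hc.symm
  have hZ : x * y ∉ center G := not_center_of_le (hxy.le.trans inf_le_left) hxZ
  have h1 : cls (x * y) = n₁ := (E.hyp.sizes _ hZ).resolve_left fun h => by
    have h' := centralizer_eq_of_cls (u := x * y) (v := x) (hxy.le.trans inf_le_left) (h.trans hx.symm)
    exact hle (le_trans (le_of_eq (h'.symm.trans hxy)) inf_le_right)
  have h2 : (Cn x ⊓ Cn y).relIndex (Cn x) * (Cn x).index = cls (x * y) := by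
    rw [relIndex_mul_index inf_le_left, cls, ← hxy]
  rw [h1, show (Cn x).index = n₂ from hx, ← E.mul, inf_comm, inf_relIndex_right] at h2
  exact Nat.eq_of_mul_eq_mul_right E.n2_pos h2

/-- What the theorem on two `p`-regular class sizes says about `C(x)` for a `p`-element `x`. -/
theorem Nest.struct {p : ℕ} [hp : Fact p.Prime] {x : G} (hxp : PEl p x) (hxZ : x ∉ center G)
    (hx : cls x = n₂) {y : G} (hy : y ∈ Cn x) (hyp : (orderOf y).Coprime p) (hne : ¬ Cn x ≤ Cn y) :
    (∀ l : ℕ, l.Prime → l ∣ m → l = p) ∨ ∃ q : ℕ, q.Prime ∧ (∀ l : ℕ, l.Prime → l ∣ m → l = p ∨ l = q) ∧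
      ∀ r : ℕ, r.Prime → r ≠ p → r ≠ q → ∀ z ∈ Cn x, PEl r z → Cn x ≤ Cn z := by
  set M := Cn x with hM
  have hcop : ∀ {z : G}, (orderOf z).Coprime p → (orderOf z).Coprime (orderOf x) := by
    intro z hz
    obtain ⟨k, hk⟩ := hxp
    rw [hk]
    exact hz.pow_right k
  have hy1 : (centralizer ({(⟨y, hy⟩ : M)} : Set M)).index = m := by
    rcases E.sub_cls hxZ hx hy (hcop hyp) with h | h
    · refine absurd ?_ hne
      rw [index_eq_one, eq_top_iff] at h
      intro g hg
      have := mem_centralizer_singleton_iff.1 (h (mem_top (⟨g, hg⟩ : M)))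
      exact mem_Cn.2 (congrArg Subtype.val this)
    · exact h.2
  have hyc : (orderOf (⟨y, hy⟩ : M)).Coprime p := by rwa [Subgroup.orderOf_mk]
  have hrange : (Set.range fun z : {z : M // (orderOf z).Coprime p} =>
      (ConjClasses.mk (z : M)).carrier.ncard) = {1, m} := by
    refine Set.Subset.antisymm ?_ ?_
    · rintro _ ⟨⟨⟨z, hz⟩, hzc⟩, rfl⟩
      simp only [CfsgLib.FGS.ncard_carrier_mk]
      rw [Subgroup.orderOf_mk] at hzc
      rcases E.sub_cls hxZ hx hz (hcop hzc) with h | h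
      · exact Or.inl h
      · exact Or.inr h.2
    · rintro _ (rfl | rfl)
      · refine ⟨⟨1, by simp⟩, (CfsgLib.FGS.ncard_carrier_mk _).trans (index_eq_one.2 ?_)⟩
        exact eq_top_iff.2 fun g _ => mem_centralizer_singleton_iff.2 (by simp)
      · exact ⟨⟨⟨y, hy⟩, hyc⟩, (CfsgLib.FGS.ncard_carrier_mk _).trans hy1⟩
  have h2 : Set.ncard (Set.range fun z : {z : M // (orderOf z).Coprime p} =>
      (ConjClasses.mk (z : M)).carrier.ncard) = 2 := by
    rw [hrange]; exact Set.ncard_pair E.m_ne_one.symm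
  rcases Cfsg.Agent.S4033.result hp.out h2 with hH | ⟨q, hq, P, Q, A, hqp, hAZ, hcard, hN, hdis, htop⟩
  · left
    obtain ⟨k, hk⟩ := (Cfsg.Agent.S4034.result hp.out).2 hH ⟨y, hy⟩ hyc
    rw [CfsgLib.FGS.ncard_carrier_mk, hy1] at hk
    intro l hl hlm
    exact (Nat.prime_dvd_prime_iff_eq hl hp.out).1 (hl.dvd_of_dvd_pow (hk ▸ hlm))
  right
  haveI := hN
  set N := (P : Subgroup M) ⊔ (Q : Subgroup M) with hNdef
  have hNi : N.index = Nat.card A := by
    rw [← relIndex_top_right, ← htop, sup_comm, relIndex_sup_right, ← inf_relIndex_right, hdis,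
      relIndex_bot_left]
  have hAi : A.index = Nat.card N := by
    refine Nat.eq_of_mul_eq_mul_left (Nat.card_pos (α := A)) ?_
    rw [A.card_mul_index, ← hNi, mul_comm, N.card_mul_index]
  refine ⟨q, hq.out, fun l hl hlm => ?_, fun r hr hrp hrq z hz hzr => ?_⟩
  · have h3 : m ∣ Nat.card N := by
      rw [← hy1, ← hAi]
      exact index_dvd_of_le fun a ha => mem_centralizer_singleton_iff.2 (mem_center_iff.1 (hAZ ha) _).symm
    rw [hNdef, hcard, P.card_eq_multiplicity, Q.card_eq_multiplicity] at h3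
    rcases hl.dvd_mul.1 (hlm.trans h3) with h | h
    · exact Or.inl ((Nat.prime_dvd_prime_iff_eq hl hp.out).1 (hl.dvd_of_dvd_pow h))
    · exact Or.inr ((Nat.prime_dvd_prime_iff_eq hl hq.out).1 (hl.dvd_of_dvd_pow h))
  · have hzA : (⟨z, hz⟩ : M) ∈ A := by
      set zM : M := ⟨z, hz⟩
      have hmem : zM ∈ N ⊔ A := htop ▸ mem_top zM
      rw [← SetLike.mem_coe, normal_mul] at hmem
      obtain ⟨k, hk, a, ha, hka⟩ := hmem
      have hc : Commute k a := mem_center_iff.1 (hAZ ha) k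
      have hpow : zM ^ Nat.card N ∈ A := by
        rw [← hka, hc.mul_pow, show k ^ Nat.card N = 1 from congrArg Subtype.val
          (pow_card_eq_one' (x := (⟨k, hk⟩ : N))), one_mul]
        exact pow_mem ha _
      have hco : (Nat.card N).Coprime (orderOf zM) := by
        obtain ⟨i, hi⟩ := hzr
        rw [show orderOf zM = orderOf z from Subgroup.orderOf_mk .., hi, hNdef, hcard,
          P.card_eq_multiplicity, Q.card_eq_multiplicity]
        exact Nat.Coprime.mul_left (((Nat.coprime_primes hp.out hr).2 hrp.symm).pow _ _)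
          (((Nat.coprime_primes hq.out hr).2 hrq.symm).pow _ _)
      obtain ⟨j, hj⟩ := exists_pow_eq_self_of_coprime hco
      exact hj ▸ pow_mem hpow j
    intro g hg
    exact mem_Cn.2 (congrArg Subtype.val (mem_center_iff.1 (hAZ hzA) ⟨g, hg⟩))

/-- Primes not dividing `m` have equal parts in all noncentral centralisers. -/
theorem Nest.fact_eq {r : ℕ} (hr : ¬ r ∣ m) {u v : G} (hu : u ∉ center G) (hv : v ∉ center G) :
    (Nat.card (Cn u)).factorization r = (Nat.card (Cn v)).factorization r := by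
  have h1 : n₁.factorization r = n₂.factorization r := by
    rw [← E.mul, Nat.factorization_mul E.m_ne_zero E.n2_pos.ne', Finsupp.add_apply,
      Nat.factorization_eq_zero_of_not_dvd hr, zero_add]
  have e : ∀ w : G, w ∉ center G → (cls w).factorization r = n₂.factorization r := fun w hw => by
    rcases E.hyp.sizes w hw with h | h <;> rw [h]
    exact h1
  have := factorization_cls_add u r
  have := factorization_cls_add v r
  have := e u hu
  have := e v hv
  omega

theorem Nest.exists_mem {r : ℕ} [Fact r.Prime] (hr : ¬ r ∣ m) {v : G} (hv : PEl r v)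
    (hvZ : v ∉ center G) {u : G} (hu : u ∉ center G) : ∃ w ∈ Cn u, PEl r w ∧ w ∉ center G :=
  exists_pEl_mem hv hvZ (E.fact_eq hr hvZ hu)

omit E in
/-- If an element does not centralise a subgroup, neither does one of its prime power parts. -/
theorem exists_part_not_le {K : Subgroup G} {y : G} (h : ¬ K ≤ Cn y) :
    ∃ p : ℕ, p.Prime ∧ p ∣ orderOf y ∧ ∃ a ∈ zpowers y, PEl p a ∧ ¬ K ≤ Cn a := by
  by_contra hcon
  push Not at hcon
  refine h fun g hg => ?_
  have hy : y ∈ centralizer (K : Set G) := mem_of_parts _ y fun p hp hpd a ha hae =>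
    mem_centralizer_iff.2 fun k hk => (mem_Cn.1 (hcon p hp hpd a ha hae hk)).eq
  exact mem_Cn.2 (mem_centralizer_iff.1 hy g hg)

/-- A maximal centraliser containing a noncentral element of coprime order. -/
theorem Nest.exists_witness : ∃ (p : ℕ) (x y : G), p.Prime ∧ PEl p x ∧ x ∉ center G ∧ cls x = n₂ ∧
    y ∈ Cn x ∧ (orderOf y).Coprime p ∧ ¬ Cn x ≤ Cn y := by
  obtain ⟨u, v, hu, hv, hlt⟩ := E.lt
  have hne : cls v ≠ cls u := fun e => hlt.ne (centralizer_eq_of_cls hlt.le e.symm)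
  have hv2 : cls v = n₂ := (E.hyp.sizes v hv).resolve_right fun e =>
    hne (e.trans (E.hyp.eq_n1_of_le hlt.le hv e).symm)
  obtain ⟨p, hp, -, x, hx, hxp, hxZ⟩ := exists_part hv
  haveI : Fact p.Prime := ⟨hp⟩
  have hx2 : cls x = n₂ := E.hyp.eq_n2_of_le (le_Cn_of_mem_zpowers hx) hxZ hv2
  have hM : Cn v = Cn x := centralizer_eq_of_cls (le_Cn_of_mem_zpowers hx) (hv2.trans hx2.symm)
  have huM : u ∈ Cn x := hM ▸ hlt.le (self_mem_Cn u)
  have hun : ¬ Cn x ≤ Cn u := fun h => hlt.not_ge (hM ▸ h)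
  obtain ⟨l, hl, -, a, ha, hal, han⟩ := exists_part_not_le hun
  haveI : Fact l.Prime := ⟨hl⟩
  have haM : a ∈ Cn x := zpowers_le.2 huM ha
  by_cases hlp : l = p
  · subst hlp
    obtain ⟨r, hr, hrp, v', hv', hv'Z, hv'2⟩ := E.hyp.exists_pEl_n2 hl
    haveI : Fact r.Prime := ⟨hr⟩
    obtain ⟨w, hw, hwr, hwZ⟩ := exists_pEl_mem (u := x) hv' hv'Z (by
      have h1 := factorization_cls_add x r
      have h2 := factorization_cls_add v' r
      rw [hx2] at h1; rw [hv'2] at h2
      omega)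
    by_cases hwc : Cn x ≤ Cn w
    · have hw2 : cls w = n₂ := E.hyp.eq_n2_of_le hwc hwZ hx2
      have hMw : Cn x = Cn w := centralizer_eq_of_cls hwc (hx2.trans hw2.symm)
      exact ⟨r, w, a, hr, hwr, hwZ, hw2, hMw ▸ haM, hal.coprime_prime (Ne.symm hrp),
        fun h => han (hMw.le.trans h)⟩
    · exact ⟨l, x, w, hl, hxp, hxZ, hx2, hw, hwr.coprime_prime hrp, hwc⟩
  · exact ⟨p, x, a, hp, hxp, hxZ, hx2, haM, hal.coprime_prime hlp, han⟩

/-- `m` is a power of one prime. -/
theorem Nest.exists_prime : ∃ s : ℕ, s.Prime ∧ ∀ l : ℕ, l.Prime → l ∣ m → l = s := by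
  obtain ⟨p, x, y, hp, hxp, hxZ, hx, hy, hyp, hyn⟩ := E.exists_witness
  haveI : Fact p.Prime := ⟨hp⟩
  rcases E.struct hxp hxZ hx hy hyp hyn with h | ⟨q, hq, h, hcent⟩
  · exact ⟨p, hp, h⟩
  by_cases hp' : p ∣ m
  swap
  · exact ⟨q, hq, fun l hl hlm => (h l hl hlm).resolve_left fun e => hp' (e ▸ hlm)⟩
  by_cases hq' : q ∣ m
  swap
  · exact ⟨p, hp, fun l hl hlm => (h l hl hlm).resolve_right fun e => hq' (e ▸ hlm)⟩
  by_cases hpq : p = q
  · exact ⟨p, hp, fun l hl hlm => (h l hl hlm).elim id fun e => e.trans hpq.symm⟩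
  exfalso
  obtain ⟨r, hr, hrp, hrq, v, hv, hvZ⟩ := exists_third E.hyp.ns hp hq
  haveI : Fact r.Prime := ⟨hr⟩
  have hrm : ¬ r ∣ m := fun hd => (h r hr hd).elim hrp hrq
  obtain ⟨w, hw, hwr, hwZ⟩ := E.exists_mem hrm hv hvZ hxZ
  have hwc := hcent r hr hrp hrq w hw hwr
  have hw2 : cls w = n₂ := E.hyp.eq_n2_of_le hwc hwZ hx
  have hMw : Cn x = Cn w := centralizer_eq_of_cls hwc (hx.trans hw2.symm)
  obtain ⟨l, hl, hld, a, ha, hal, han⟩ := exists_part_not_le hyn
  haveI : Fact l.Prime := ⟨hl⟩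
  have haM : a ∈ Cn x := zpowers_le.2 hy ha
  have hlp : l ≠ p := fun e => hp.coprime_iff_not_dvd.1 hyp.symm (e ▸ hld)
  have hlr : l ≠ r := fun e => han (hcent r hr hrp hrq a haM (e ▸ hal))
  rcases E.struct hwr hwZ hw2 (hMw ▸ haM) (hal.coprime_prime hlr) (fun h' => han (hMw.le.trans h'))
    with h' | ⟨q', -, h', -⟩
  · exact hrp (h' p hp hp').symm
  · exact hpq (((h' p hp hp').resolve_left (Ne.symm hrp)).trans
      ((h' q hq hq').resolve_left (Ne.symm hrq)).symm)

variable {s : ℕ} (hs : ∀ l : ℕ, l.Prime → l ∣ m → l = s)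
include hs

theorem Nest.not_dvd {r : ℕ} (hr : r.Prime) (hrs : r ≠ s) : ¬ r ∣ m := fun h => hrs (hs r hr h)

theorem Nest.prime_s : s.Prime := by
  have := hs _ (Nat.minFac_prime E.m_ne_one) (Nat.minFac_dvd m)
  exact this ▸ Nat.minFac_prime E.m_ne_one

theorem Nest.central_ne {p r : ℕ} [hp : Fact p.Prime] [hr : Fact r.Prime] (hps : p ≠ s) (hrp : r ≠ p)
    (hrs : r ≠ s) {x : G} (hxp : PEl p x) (hxZ : x ∉ center G) (hx : cls x = n₂) {z : G}
    (hz : z ∈ Cn x) (hzr : PEl r z) : Cn x ≤ Cn z := by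
  by_contra hcon
  have hsp := E.prime_s hs
  have hsm : s ∣ m := hs _ (Nat.minFac_prime E.m_ne_one) (Nat.minFac_dvd m) ▸ Nat.minFac_dvd m
  rcases E.struct hxp hxZ hx hz (hzr.coprime_prime hrp) hcon with h | ⟨q, hq, h, hcent⟩
  · exact hps (h s hsp hsm).symm
  · have hsq : s = q := (h s hsp hsm).resolve_left (Ne.symm hps)
    exact hcon (hcent r hr.out hrp (hsq ▸ hrs) z hz hzr)

/-- All elements of prime power order prime to `s` in a maximal centraliser are central in it. -/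
theorem Nest.central_n2 {p r : ℕ} [hp : Fact p.Prime] [hr : Fact r.Prime] (hps : p ≠ s) (hrs : r ≠ s)
    {x : G} (hxp : PEl p x) (hxZ : x ∉ center G) (hx : cls x = n₂) {z : G} (hz : z ∈ Cn x)
    (hzr : PEl r z) : Cn x ≤ Cn z := by
  by_cases hrp : r = p
  · subst hrp
    obtain ⟨t, ht, htr, hts, v, hv, hvZ⟩ := exists_third E.hyp.ns hr.out (E.prime_s hs)
    haveI : Fact t.Prime := ⟨ht⟩
    obtain ⟨w, hw, hwt, hwZ⟩ := E.exists_mem (E.not_dvd hs ht hts) hv hvZ hxZ
    have hwc := E.central_ne hs hps htr hts hxp hxZ hx hw hwt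
    have hw2 : cls w = n₂ := E.hyp.eq_n2_of_le hwc hwZ hx
    have hMw : Cn x = Cn w := centralizer_eq_of_cls hwc (hx.trans hw2.symm)
    exact hMw.le.trans (E.central_ne hs hts (Ne.symm htr) hrs hwt hwZ hw2 (hMw ▸ hz) hzr)
  · exact E.central_ne hs hps hrp hrs hxp hxZ hx hz hzr

theorem Nest.central_coprime {r t : ℕ} [hr : Fact r.Prime] [ht : Fact t.Prime] (htr : t ≠ r)
    (hrs : r ≠ s) (hts : t ≠ s) {w : G} (hw : PEl r w) (hwZ : w ∉ center G) {z : G} (hz : z ∈ Cn w)
    (hzt : PEl t z) : Cn w ≤ Cn z := by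
  rcases E.hyp.sizes w hwZ with h | h
  · exact E.central_n2 hs hrs hts hw hwZ h hz hzt
  · have e : Cn (w * z) = Cn w ⊓ Cn z := Cn_mul (mem_Cn.1 hz).symm (hw.coprime (Ne.symm htr) hzt)
    have h1 := E.hyp.eq_n1_of_le (e.le.trans inf_le_left : Cn (w * z) ≤ Cn w) hwZ h
    have h2 := centralizer_eq_of_cls (u := w * z) (v := w) (e.le.trans inf_le_left) (h1.trans h.symm)
    exact le_trans (le_of_eq (h2.symm.trans e)) inf_le_right

/-- All elements of prime power order prime to `s` in the centraliser of such an element are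
central in it. -/
theorem Nest.central_all {r t : ℕ} [hr : Fact r.Prime] [ht : Fact t.Prime] (hrs : r ≠ s) (hts : t ≠ s)
    {w : G} (hw : PEl r w) (hwZ : w ∉ center G) {z : G} (hz : z ∈ Cn w) (hzt : PEl t z) :
    Cn w ≤ Cn z := by
  by_cases htr : t = r
  · subst htr
    obtain ⟨q, hq, hqr, hqs, v, hv, hvZ⟩ := exists_third E.hyp.ns ht.out (E.prime_s hs)
    haveI : Fact q.Prime := ⟨hq⟩
    obtain ⟨y, hy, hyq, hyZ⟩ := E.exists_mem (E.not_dvd hs hq hqs) hv hvZ hwZ
    have h1 := E.central_coprime hs hqr hrs hqs hw hwZ hy hyq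
    exact h1.trans (E.central_coprime hs (Ne.symm hqr) hqs hts hyq hyZ (h1 hz) hzt)
  · exact E.central_coprime hs htr hrs hts hw hwZ hz hzt

/-- Commuting noncentral elements of prime power orders prime to `s` have the same centraliser. -/
theorem Nest.comp_eq {r t : ℕ} [hr : Fact r.Prime] [ht : Fact t.Prime] (hrs : r ≠ s) (hts : t ≠ s)
    {w : G} (hw : PEl r w) (hwZ : w ∉ center G) {z : G} (hz : z ∈ Cn w) (hzt : PEl t z)
    (hzZ : z ∉ center G) : Cn w = Cn z :=
  le_antisymm (E.central_all hs hrs hts hw hwZ hz hzt)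
    (E.central_all hs hts hrs hzt hzZ (mem_Cn.2 (mem_Cn.1 hz).symm) hw)

end Cfsg.Agent.ConjRankTwo
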