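import Cfsg.Agent.Lib.FGS.CoprimeLargest
import Cfsg.Agent.Lib.Solvable.KegelWielandt
import Cfsg.Agent.Lib.Char.Burnside
import Cfsg.Agent.S4033
import Cfsg.Agent.S4034

/-!
Groups with exactly two nontrivial class sizes (conjugate rank two): common setup.
-/

set_option autoImplicit false
set_option linter.unusedSectionVars false
set_option linter.style.haveILetI false

namespace Cfsg.Agent.ConjRankTwo

open Subgroup CfsgLib.FGS.TwoLargest

variable {G : Type*} [Group G] [Finite G]

/-- The centraliser of an element. -/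
abbrev Cn (x : G) : Subgroup G := centralizer ({x} : Set G)

/-- `x` has prime power order for the prime `p`. -/
def PEl (p : ℕ) (x : G) : Prop := ∃ k : ℕ, orderOf x = p ^ k

theorem mem_Cn {x g : G} : g ∈ Cn x ↔ Commute g x := commute_iff

theorem self_mem_Cn (x : G) : x ∈ Cn x := mem_Cn.2 (Commute.refl x)

theorem center_le_Cn (x : G) : center G ≤ Cn x := fun z hz =>
  mem_Cn.2 ((mem_center_iff.1 hz x).symm)

theorem Cn_eq_top {x : G} : Cn x = ⊤ ↔ x ∈ center G := by
  rw [← cls_eq_one, cls, index_eq_one]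

theorem not_center_of_le {a b : G} (h : Cn a ≤ Cn b) (hb : b ∉ center G) : a ∉ center G := fun ha =>
  hb (Cn_eq_top.1 (top_le_iff.1 (le_trans (Cn_eq_top.2 ha).ge h)))

theorem le_Cn_of_mem_zpowers {v a : G} (ha : a ∈ zpowers v) : Cn v ≤ Cn a :=
  centralizer_le_of_mem_zpowers ha

theorem Cn_mul {u v : G} (huv : Commute u v) (hc : (orderOf u).Coprime (orderOf v)) :
    Cn (u * v) = Cn u ⊓ Cn v := by
  refine le_antisymm (le_inf (centralizer_mul_le huv hc) ?_) fun g hg =>
    mem_Cn.2 ((mem_Cn.1 hg.1).mul_right (mem_Cn.1 hg.2))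
  show Cn (u * v) ≤ Cn v
  rw [huv.eq]
  exact centralizer_mul_le huv.symm hc.symm

theorem PEl.coprime {p q : ℕ} [hp : Fact p.Prime] [hq : Fact q.Prime] (hpq : p ≠ q) {a b : G}
    (ha : PEl p a) (hb : PEl q b) : (orderOf a).Coprime (orderOf b) := by
  obtain ⟨i, hi⟩ := ha
  obtain ⟨j, hj⟩ := hb
  rw [hi, hj]
  exact ((Nat.coprime_primes hp.out hq.out).2 hpq).pow i j

theorem PEl.coprime_prime {p q : ℕ} [hp : Fact p.Prime] [hq : Fact q.Prime] (hpq : p ≠ q) {a : G}
    (ha : PEl p a) : (orderOf a).Coprime q := by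
  obtain ⟨i, hi⟩ := ha
  rw [hi]
  exact ((Nat.coprime_primes hp.out hq.out).2 hpq).pow_left i

/-- A noncentral element has a noncentral part of prime power order. -/
theorem exists_part {x : G} (hx : x ∉ center G) :
    ∃ p : ℕ, p.Prime ∧ p ∣ orderOf x ∧ ∃ a ∈ zpowers x, PEl p a ∧ a ∉ center G := by
  by_contra hcon
  push Not at hcon
  exact hx (mem_of_parts (center G) x fun p hp hpd a ha hpe => hcon p hp hpd a ha hpe)

theorem factorization_cls_add (u : G) (r : ℕ) :
    (Nat.card (Cn u)).factorization r + (cls u).factorization r = (Nat.card G).factorization r := by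
  rw [← (Cn u).card_mul_index, Nat.factorization_mul Nat.card_pos.ne' index_ne_zero_of_finite]
  rfl

theorem PEl.isPGroup {p : ℕ} [Fact p.Prime] {v : G} (hv : PEl p v) : IsPGroup p (zpowers v) := by
  obtain ⟨k, hk⟩ := hv
  exact IsPGroup.of_card (n := k) (by rw [Nat.card_zpowers, hk])

/-- If the `r`-parts of two centraliser orders agree and the second element is a noncentral
`r`-element then the first centraliser contains a noncentral `r`-element. -/
theorem exists_pEl_mem {r : ℕ} [hr : Fact r.Prime] {u v : G} (hv : PEl r v) (hvZ : v ∉ center G)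
    (h : (Nat.card (Cn v)).factorization r = (Nat.card (Cn u)).factorization r) :
    ∃ w ∈ Cn u, PEl r w ∧ w ∉ center G := by
  by_contra hcon
  push Not at hcon
  obtain ⟨R⟩ : Nonempty (Sylow r (Cn u)) := inferInstance
  set R' := (R : Subgroup (Cn u)).map (Cn u).subtype with hR'
  have hRp : IsPGroup r R' := R.2.map _
  have hRc : Nat.card R' = r ^ (Nat.card (Cn u)).factorization r := by
    rw [hR', card_map_of_injective (subtype_injective _), R.card_eq_multiplicity]
  have hRZ : R' ≤ center G := by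
    intro w hw
    obtain ⟨y, hy, rfl⟩ := mem_map.1 hw
    obtain ⟨k, hk⟩ := IsPGroup.iff_orderOf.1 R.2 ⟨y, hy⟩
    refine hcon _ y.2 ⟨k, ?_⟩
    rw [← hk]; simp
  have hnorm : zpowers v ≤ Subgroup.normalizer (R' : Set G) := fun g _ => by
    haveI : R'.Normal := ⟨fun n hn g => by
      rw [mem_center_iff.1 (hRZ hn) g, mul_inv_cancel_right]; exact hn⟩
    rw [R'.normalizer_eq_top]; exact mem_top g
  have hsup : IsPGroup r (R' ⊔ zpowers v : Subgroup G) := hRp.to_sup_of_normal_left' hv.isPGroup hnorm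
  have hle : R' ⊔ zpowers v ≤ Cn v :=
    sup_le (hRZ.trans (center_le_Cn v)) (zpowers_le.2 (self_mem_Cn v))
  obtain ⟨j, hj⟩ := hsup.exists_card_eq
  have h1 := card_dvd_of_le hle
  rw [hj, hr.out.pow_dvd_iff_le_factorization Nat.card_pos.ne', h] at h1
  have heq : R' = R' ⊔ zpowers v := Subgroup.eq_of_le_of_card_ge le_sup_left (by
    rw [hj, hRc]; exact Nat.pow_le_pow_right hr.out.pos h1)
  exact hvZ (hRZ (heq ▸ (le_sup_right : zpowers v ≤ R' ⊔ zpowers v) (mem_zpowers v)))

theorem isSolvable_of_quotient (N : Subgroup G) [N.Normal] (hN : Group.IsSolvable N)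
    (hQ : Group.IsSolvable (G ⧸ N)) : Group.IsSolvable G :=
  solvable_of_ker_le_range N.subtype (QuotientGroup.mk' N) (by simp)

theorem isSolvable_center : Group.IsSolvable (center G) :=
  Group.isSolvable_of_comm fun a b => Subtype.ext (mem_center_iff.1 b.2 a)

theorem isSolvable_of_quotient_center (hQ : Group.IsSolvable (G ⧸ center G)) : Group.IsSolvable G :=
  isSolvable_of_quotient (center G) isSolvable_center hQ

/-- In a nonsolvable group there are noncentral elements of prime power order for a third prime. -/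
theorem exists_third (hns : ¬ Group.IsSolvable G) {p q : ℕ} (hp : p.Prime) (hq : q.Prime) :
    ∃ r : ℕ, r.Prime ∧ r ≠ p ∧ r ≠ q ∧ ∃ v : G, PEl r v ∧ v ∉ center G := by
  by_contra hcon
  push Not at hcon
  refine hns (isSolvable_of_quotient_center ?_)
  set c := Nat.card G
  have key : ∀ x : G, x ^ (p ^ c.factorization p * q ^ c.factorization q) ∈ center G := by
    intro x
    set P := p ^ c.factorization p * q ^ c.factorization q with hP
    refine mem_of_parts _ _ fun r hr hrd a ha hpe => hcon r hr ?_ ?_ a hpe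
    all_goals
      rintro rfl
    · have h1 : orderOf (x ^ P) ∣ c / r ^ c.factorization r := by
        refine orderOf_dvd_of_pow_eq_one ?_
        rw [← pow_mul]
        exact orderOf_dvd_iff_pow_eq_one.1 ((orderOf_dvd_natCard x).trans
          ((Nat.ordProj_mul_ordCompl_eq_self c r).symm.dvd.trans
            (mul_dvd_mul (dvd_mul_right _ _) dvd_rfl)))
      exact Nat.not_dvd_ordCompl hr Nat.card_pos.ne' (hrd.trans h1)
    · have h1 : orderOf (x ^ P) ∣ c / r ^ c.factorization r := by
        refine orderOf_dvd_of_pow_eq_one ?_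
        rw [← pow_mul]
        exact orderOf_dvd_iff_pow_eq_one.1 ((orderOf_dvd_natCard x).trans
          ((Nat.ordProj_mul_ordCompl_eq_self c r).symm.dvd.trans
            (mul_dvd_mul (dvd_mul_left _ _) dvd_rfl)))
      exact Nat.not_dvd_ordCompl hr Nat.card_pos.ne' (hrd.trans h1)
  have hexp : ∀ y : G ⧸ center G, y ^ (p ^ c.factorization p * q ^ c.factorization q) = 1 := by
    intro y
    obtain ⟨x, rfl⟩ := QuotientGroup.mk_surjective y
    rw [← QuotientGroup.mk_pow]
    exact (QuotientGroup.eq_one_iff _).2 (key x)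
  refine CfsgLib.Char.isSolvable_of_card_eq_pow_mul_pow hp hq
    (a := (Nat.card (G ⧸ center G)).factorization p) (b := (Nat.card (G ⧸ center G)).factorization q) ?_
  refine (Nat.factorization_le_iff_dvd Nat.card_pos.ne'
    (mul_ne_zero (pow_ne_zero _ hp.ne_zero) (pow_ne_zero _ hq.ne_zero))).1 fun t => ?_
  rw [Nat.factorization_mul (pow_ne_zero _ hp.ne_zero) (pow_ne_zero _ hq.ne_zero),
    hp.factorization_pow, hq.factorization_pow]
  rcases Nat.eq_zero_or_pos ((Nat.card (G ⧸ center G)).factorization t) with h0 | hpos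
  · omega
  have ht : t.Prime := Nat.prime_of_mem_primeFactors (Finsupp.mem_support_iff.2 hpos.ne')
  haveI : Fact t.Prime := ⟨ht⟩
  obtain ⟨y, hy⟩ := exists_prime_orderOf_dvd_card' (G := G ⧸ center G) t
    (Nat.dvd_of_factorization_pos hpos.ne')
  have hd := orderOf_dvd_of_pow_eq_one (hexp y)
  rw [hy] at hd
  rcases ht.dvd_mul.1 hd with h | h
  · obtain rfl := (Nat.prime_dvd_prime_iff_eq ht hp).1 (ht.dvd_of_dvd_pow h)
    simp
  · obtain rfl := (Nat.prime_dvd_prime_iff_eq ht hq).1 (ht.dvd_of_dvd_pow h)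
    simp

/-- The conclusion of the theorem on two `p`-regular class sizes gives solvability. -/
theorem isSolvable_of_two_regular {p : ℕ} (hp : p.Prime)
    (h2 : Set.ncard (Set.range fun x : {x : G // (orderOf x).Coprime p} =>
      (ConjClasses.mk (x : G)).carrier.ncard) = 2) : Group.IsSolvable G := by
  haveI : Fact p.Prime := ⟨hp⟩
  rcases Cfsg.Agent.S4033.result hp h2 with ⟨H, hH, hpH, k, hk⟩ | ⟨q, hq, P, Q, A, hqp, hAZ, hcard, hN, hdis, htop⟩
  · obtain ⟨P⟩ : Nonempty (Sylow p G) := inferInstance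
    have hcop : (P : Subgroup G).index.Coprime H.index := by
      rw [hk]
      exact ((hp.coprime_iff_not_dvd.2 P.not_dvd_index).pow_left k).symm
    haveI := P.2.isNilpotent
    refine CfsgLib.Solvable.isSolvable_of_nilpotent_mul (A := (P : Subgroup G)) (B := H) inferInstance ?_
      (CfsgLib.Solvable.mul_of_coprime_index hcop)
    letI : CommGroup H := { (inferInstance : Group H) with mul_comm := hH.is_comm.comm }
    infer_instance
  · haveI := hN
    refine isSolvable_of_quotient ((P : Subgroup G) ⊔ (Q : Subgroup G)) ?_ ?_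
    · refine CfsgLib.Char.isSolvable_of_card_eq_pow_mul_pow hp hq.out
        (a := (Nat.card G).factorization p) (b := (Nat.card G).factorization q) ?_
      rw [hcard, P.card_eq_multiplicity, Q.card_eq_multiplicity]
    · refine Group.isSolvable_of_comm fun a b => ?_
      obtain ⟨x, rfl⟩ := QuotientGroup.mk_surjective a
      obtain ⟨y, rfl⟩ := QuotientGroup.mk_surjective b
      have hy : y ∈ ((P : Subgroup G) ⊔ (Q : Subgroup G)) ⊔ A := htop ▸ mem_top y
      rw [← SetLike.mem_coe, normal_mul] at hy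
      obtain ⟨n, hn, z, hz, rfl⟩ := hy
      rw [QuotientGroup.mk_mul, (QuotientGroup.eq_one_iff n).2 hn, one_mul,
        ← QuotientGroup.mk_mul, ← QuotientGroup.mk_mul, mem_center_iff.1 (hAZ hz) x]

/-- The hypotheses: two nontrivial class sizes `n₂ < n₁`, and `G` not solvable. -/
structure Hyp (G : Type*) [Group G] (n₁ n₂ : ℕ) : Prop where
  lt : n₂ < n₁
  sizes : ∀ x : G, x ∉ center G → cls x = n₂ ∨ cls x = n₁
  ns : ¬ Group.IsSolvable G

variable {n₁ n₂ : ℕ} (D : Hyp G n₁ n₂)
include D

theorem Hyp.n2_le {x : G} (hx : x ∉ center G) : n₂ ≤ cls x := by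
  rcases D.sizes x hx with h | h
  · exact h.ge
  · exact h ▸ D.lt.le

theorem Hyp.le_n1 {x : G} (hx : x ∉ center G) : cls x ≤ n₁ := by
  rcases D.sizes x hx with h | h
  · exact h ▸ D.lt.le
  · exact h.le

theorem Hyp.eq_n2_of_le {a b : G} (h : Cn a ≤ Cn b) (hb : b ∉ center G) (ha : cls a = n₂) :
    cls b = n₂ :=
  le_antisymm (ha ▸ Nat.le_of_dvd (Nat.pos_of_ne_zero (cls_ne_zero a)) (cls_dvd h)) (D.n2_le hb)

theorem Hyp.eq_n1_of_le {a b : G} (h : Cn a ≤ Cn b) (hb : b ∉ center G) (hb1 : cls b = n₁) :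
    cls a = n₁ :=
  le_antisymm (D.le_n1 (not_center_of_le h hb))
    (hb1 ▸ Nat.le_of_dvd (Nat.pos_of_ne_zero (cls_ne_zero a)) (cls_dvd h))

/-- Elements of order prime to `p` take both class sizes. -/
theorem Hyp.both {p : ℕ} (hp : p.Prime) {n : ℕ} (hn : n = n₁ ∨ n = n₂) :
    ∃ x : G, (orderOf x).Coprime p ∧ x ∉ center G ∧ cls x = n := by
  by_contra hcon
  push Not at hcon
  haveI : Fact p.Prime := ⟨hp⟩
  obtain ⟨r, hr, hrp, -, v, hv, hvZ⟩ := exists_third D.ns hp hp
  haveI : Fact r.Prime := ⟨hr⟩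
  have hcv : (orderOf v).Coprime p := hv.coprime_prime hrp
  refine D.ns (isSolvable_of_two_regular hp ?_)
  have hrange : (Set.range fun x : {x : G // (orderOf x).Coprime p} =>
      (ConjClasses.mk (x : G)).carrier.ncard) = {1, cls v} := by
    refine Set.Subset.antisymm ?_ ?_
    · rintro m ⟨⟨x, hx⟩, rfl⟩
      simp only [CfsgLib.FGS.ncard_carrier_mk]
      by_cases hxZ : x ∈ center G
      · exact Or.inl (cls_eq_one.2 hxZ)
      · refine Or.inr ?_
        show cls x = cls v
        have h1 := hcon x hx hxZ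
        have h2 := hcon v hcv hvZ
        rcases D.sizes x hxZ with e | e <;> rcases D.sizes v hvZ with e' | e' <;>
          rcases hn with rfl | rfl <;> first | (exfalso; tauto) | omega
    · rintro m (rfl | rfl)
      · exact ⟨⟨1, by simp⟩, (CfsgLib.FGS.ncard_carrier_mk _).trans (cls_eq_one.2 (one_mem (center G)))⟩
      · exact ⟨⟨v, hcv⟩, CfsgLib.FGS.ncard_carrier_mk _⟩
  rw [hrange]
  exact Set.ncard_pair fun e => hvZ (cls_eq_one.1 e.symm)

/-- The smaller size is taken by prime power elements avoiding any given prime. -/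
theorem Hyp.exists_pEl_n2 {p : ℕ} (hp : p.Prime) :
    ∃ r : ℕ, r.Prime ∧ r ≠ p ∧ ∃ v : G, PEl r v ∧ v ∉ center G ∧ cls v = n₂ := by
  obtain ⟨x, hxp, hxZ, hx⟩ := D.both hp (Or.inr rfl)
  obtain ⟨r, hr, hrd, a, ha, hae, haZ⟩ := exists_part hxZ
  exact ⟨r, hr, fun e => hp.coprime_iff_not_dvd.1 hxp.symm (e ▸ hrd), a, hae, haZ,
    D.eq_n2_of_le (le_Cn_of_mem_zpowers ha) haZ hx⟩

end Cfsg.Agent.ConjRankTwo
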